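import Cfsg.Agent.Lib.CharTheory.Burnside
import Cfsg.Agent.Lib.CharTheory.More

/-!
A congruence from the orthogonality of two columns of the character table.

Blueprint: `blueprint/bender/A5c_audit.md`, section 5 (END (R)).
-/

set_option autoImplicit false

namespace CfsgLib.Bender.NCTools

open Cfsg CfsgLib.CharTheory
open scoped ComplexConjugate

universe u

variable {L : Type u} [Group L]

/-- A scalar element has all its commutators in the kernel. -/
theorem commutator_mem_charKernel [Finite L] {χ : L → ℂ} (hχ : IsIrrCharacter L χ) {z : L}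
    (h : ‖χ z‖ = ‖χ 1‖) (g : L) : χ (g * z * g⁻¹ * z⁻¹) = χ 1 := by
  obtain ⟨n, ρ, hρ, rfl⟩ := hχ
  have h' : ‖ρ.character z‖ = (Module.finrank ℂ (Fin n → ℂ) : ℝ) := by
    rw [h, ρ.char_one, Complex.norm_natCast]
  obtain ⟨ω, hω⟩ := eq_smul_id_of_norm_character_eq ρ z h'
  have hz : ∀ f : Module.End ℂ (Fin n → ℂ), ρ z * f = f * ρ z := fun f => by
    rw [hω, ← Module.End.one_eq_id, smul_mul_assoc, mul_smul_comm, one_mul, mul_one]
  have hone : ρ (g * z * g⁻¹ * z⁻¹) = 1 := by
    rw [map_mul, map_mul, map_mul, ← hz (ρ g), mul_assoc (ρ z), ← map_mul, mul_inv_cancel, map_one, mul_one,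
      ← map_mul, mul_inv_cancel, map_one]
  simp only [Representation.character, hone, map_one]

/-- If `z` generates normally modulo commutators and is not conjugate to `k`, then the congruence obtained from the
orthogonality of the columns at `k` and `z` is impossible. -/
theorem false_of_column [Fintype L] {z k : L} {q : ℕ} (hq : q.Prime)
    (hgen : ∀ M : Subgroup L, M.Normal → (∀ g, g * z * g⁻¹ * z⁻¹ ∈ M) → M = ⊤) (hne : ¬ IsConj k z)
    (hqk : q ∣ (Subgroup.centralizer ({z} : Set L)).index → ¬ q ∣ (Subgroup.centralizer ({k} : Set L)).index)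
    (hvan : ∀ r : ℕ, r.Prime → r ≠ q → r ∣ (Subgroup.centralizer ({z} : Set L)).index →
      ∀ χ : L → ℂ, IsIrrCharacter L χ → ∀ deg : ℕ, χ 1 = deg → r ∣ deg → χ k = 0) : False := by
  classical
  have hq0 : (q : ℂ) ≠ 0 := Nat.cast_ne_zero.mpr hq.ne_zero
  have hstep : ∀ χ : IrrCharacter L, (χ : L → ℂ) ≠ (fun _ => 1) →
      ∃ w : ℂ, IsIntegral ℤ w ∧ (χ : L → ℂ) k * conj ((χ : L → ℂ) z) = (q : ℂ) * w := by
    rintro ⟨χ, hχ⟩ hne1
    obtain ⟨n, ρ, hρ, rfl⟩ := id hχ
    haveI := hρ
    dsimp only at hne1 ⊢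
    set d := Module.finrank ℂ (Fin n → ℂ) with hd
    by_cases hcop : Nat.Coprime d (Subgroup.centralizer ({z} : Set L)).index
    · refine ⟨0, isIntegral_zero, ?_⟩
      rcases zero_or_norm_of_coprime ρ z hcop with h0 | h1
      · rw [h0, map_zero, mul_zero, mul_zero]
      exfalso
      have hz : ‖ρ.character z‖ = ‖ρ.character 1‖ := by rw [h1, ρ.char_one, Complex.norm_natCast]
      have hM := hgen (charKernel _ (isCharacter_of_irr hχ)) inferInstance fun g =>
        (mem_charKernel _ _).mpr (commutator_mem_charKernel hχ hz g)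
      exact hne1 (irr_eq_one_of_kernel_top hχ fun g => (mem_charKernel _ _).mp (hM ▸ Subgroup.mem_top g))
    obtain ⟨r, hr, hrd, hri⟩ := Nat.Prime.not_coprime_iff_dvd.mp hcop
    have hdeg : ρ.character 1 = (d : ℂ) := ρ.char_one
    by_cases hrq : r = q
    · subst hrq
      have hk := hqk hri
      set c := (Subgroup.centralizer ({k} : Set L)).index
      have h1 := isIntegral_index_mul_div ρ k
      rw [← hd] at h1
      obtain ⟨j, hj⟩ := hrd
      have hbez := Nat.gcd_eq_gcd_ab r c
      rw [(hq.coprime_iff_not_dvd.mpr hk).gcd_eq_one] at hbez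
      have hbez' : (1 : ℂ) = (r : ℂ) * ((Nat.gcdA r c : ℤ) : ℂ) + (c : ℂ) * ((Nat.gcdB r c : ℤ) : ℂ) := by
        exact_mod_cast congrArg (fun z : ℤ => (z : ℂ)) hbez
      have hint : IsIntegral ℤ (ρ.character k / (r : ℂ)) := by
        have hd' : (d : ℂ) ≠ 0 := hdeg ▸ irr_ne_zero hχ
        have e : ρ.character k / (r : ℂ) = ((Nat.gcdA r c : ℤ) : ℂ) * ρ.character k +
            ((Nat.gcdB r c : ℤ) : ℂ) * (j : ℂ) * ((c : ℂ) * ρ.character k / (d : ℂ)) := by
          have hj' : (d : ℂ) = (r : ℂ) * (j : ℂ) := by exact_mod_cast hj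
          have hj0 : (j : ℂ) ≠ 0 := fun e => hd' (by rw [hj', e, mul_zero])
          rw [hj']
          field_simp
          linear_combination (ρ.character k) * hbez'
        rw [e]
        exact (isIntegral_algebraMap.mul (isIntegral_character ρ k)).add
          ((isIntegral_algebraMap.mul (isIntegral_algebraMap (R := ℤ) (x := (j : ℤ)))).mul h1)
      refine ⟨ρ.character k / (r : ℂ) * conj (ρ.character z), hint.mul ?_, by field_simp⟩
      rw [← char_apply_inv (isCharacter_of_irr hχ)]
      exact isIntegral_character ρ _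
    · exact ⟨0, isIntegral_zero, by rw [hvan r hr hrq hri _ hχ d hdeg hrd, zero_mul, mul_zero]⟩
  choose w hw hw' using hstep
  have hsum := sum_irr_mul_conj k z
  rw [if_neg hne] at hsum
  let one : IrrCharacter L := ⟨fun _ => 1, isIrrCharacter_one⟩
  rw [← Finset.add_sum_erase _ _ (Finset.mem_univ one), ← Finset.sum_attach] at hsum
  have hne' : ∀ χ : {x // x ∈ Finset.univ.erase one}, ((χ.1 : L → ℂ)) ≠ (fun _ => 1) :=
    fun χ e => (Finset.mem_erase.mp χ.2).1 (Subtype.ext e)
  rw [Finset.sum_congr rfl fun χ _ => hw' χ.1 (hne' χ), ← Finset.mul_sum] at hsum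
  set Z := ∑ χ ∈ (Finset.univ.erase one).attach, w χ.1 (hne' χ)
  have hZ : IsIntegral ℤ Z := IsIntegral.sum _ fun χ _ => hw _ _
  have h : IsIntegral ℤ (((-1 : ℚ) / q : ℚ) : ℂ) := by
    convert hZ using 1
    push_cast
    rw [eq_comm, eq_div_iff hq0]
    simp only [one, map_one, mul_one] at hsum
    linear_combination hsum
  obtain ⟨m, hm⟩ := exists_int_of_isIntegral_ratCast h
  rw [div_eq_iff (Nat.cast_ne_zero.mpr hq.ne_zero)] at hm
  have h2 : (-1 : ℤ) = m * q := by exact_mod_cast hm
  have h3 : (q : ℤ) ∣ 1 := ⟨-m, by linear_combination -h2⟩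
  exact hq.ne_one (by exact_mod_cast Int.eq_one_of_dvd_one (by positivity) h3)

end CfsgLib.Bender.NCTools
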