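import Cfsg.Agent.Lib.Bender.NCTools.SmallVariance
import Cfsg.Agent.Lib.CharTheory.AbelianInertia
import Cfsg.Agent.Lib.CharTheory.Burnside
import Cfsg.Agent.Lib.CharTheory.More

/-!
Characters of degree divisible by `r` vanish on the `r`-singular elements of the centraliser of a semiregular abelian
Sylow `r`-subgroup with small automiser.

Blueprint: `blueprint/bender/A5c_audit.md`, section 5 (vanishing).
-/

set_option autoImplicit false
set_option linter.unusedSectionVars false

namespace CfsgLib.Bender.NCTools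

open Cfsg CfsgLib.CharTheory
open scoped ComplexConjugate

universe u

/-- Automorphisms act on irreducible characters. -/
@[reducible]
noncomputable def irrAct (A : Type u) [Group A] : MulAction (MulAut A) (IrrCharacter A) where
  smul σ χ := ⟨fun x => (χ : A → ℂ) (σ⁻¹ x),
    isIrrCharacter_comp_surjective χ.2 (σ⁻¹ : MulAut A).toMonoidHom (σ⁻¹ : MulAut A).surjective⟩
  one_smul χ := Subtype.ext (funext fun x => by show (χ : A → ℂ) ((1 : MulAut A)⁻¹ x) = _; simp)
  mul_smul σ τ χ := Subtype.ext (funext fun x => by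
    show (χ : A → ℂ) ((σ * τ)⁻¹ x) = (χ : A → ℂ) (τ⁻¹ (σ⁻¹ x))
    simp [mul_inv_rev, MulAut.mul_apply])

variable {L : Type u} [Group L]

/-- Conjugation of a subgroup by its normaliser. -/
def conjS (T : Subgroup L) {N : Subgroup L} (h : N ≤ Subgroup.normalizer (T : Set L)) : N →* MulAut T :=
  T.normalizerMonoidHom.comp (Subgroup.inclusion h)

theorem conjS_apply (T : Subgroup L) {N : Subgroup L} (h : N ≤ Subgroup.normalizer (T : Set L)) (n : N) (x : T) :
    ((conjS T h n x : T) : L) = n * x * (n : L)⁻¹ := rfl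

theorem normSq_sum_le [Fintype L] [DecidableEq L] {χ : L → ℂ} (hχ : IsIrrCharacter L χ) {ι : Type*} (P : Finset ι) (f : ι → L)
    (k : ℕ) (hk : ∀ x : L, ((Finset.univ ×ˢ P).filter fun p : L × ι => p.1 * f p.2 * p.1⁻¹ = x).card ≤ k) :
    ∑ p ∈ P, ‖χ (f p)‖ ^ 2 ≤ (k : ℝ) := by
  classical
  have hcl := isClassFunction_irr hχ
  have h1 : ∑ q ∈ (Finset.univ : Finset L) ×ˢ P, ‖χ (q.1 * f q.2 * q.1⁻¹)‖ ^ 2 =
      (Nat.card L : ℝ) * ∑ p ∈ P, ‖χ (f p)‖ ^ 2 := by
    rw [Finset.sum_product, Finset.mul_sum, Finset.sum_comm]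
    refine Finset.sum_congr rfl fun p _ => ?_
    simp only [hcl (f p), Finset.sum_const, Finset.card_univ, nsmul_eq_mul, ← Nat.card_eq_fintype_card]
  have h2 : ∑ q ∈ (Finset.univ : Finset L) ×ˢ P, ‖χ (q.1 * f q.2 * q.1⁻¹)‖ ^ 2 ≤
      ∑ x : L, (k : ℝ) * ‖χ x‖ ^ 2 := by
    rw [← Finset.sum_fiberwise_of_maps_to' (t := (Finset.univ : Finset L))
      (fun q _ => Finset.mem_univ (q.1 * f q.2 * q.1⁻¹)) (fun x => ‖χ x‖ ^ 2)]
    refine Finset.sum_le_sum fun x _ => ?_
    rw [Finset.sum_const, nsmul_eq_mul]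
    exact mul_le_mul_of_nonneg_right (Nat.cast_le.mpr (hk x)) (sq_nonneg _)
  rw [h1, ← Finset.mul_sum, sum_norm_sq_irr hχ, mul_comm (k : ℝ)] at h2
  exact le_of_mul_le_mul_left h2 (Nat.cast_pos.mpr Nat.card_pos)

variable [Fintype L] {r : ℕ} [Fact r.Prime] {R S N : Subgroup L}

/-- The vanishing lemma, with the centraliser given as a product. -/
theorem vanish_of_product (hR : IsPGroup r R) (hidx : ¬ r ∣ R.index)
    (hRab : ∀ y ∈ R, ∀ y' ∈ R, y * y' = y' * y) (hcomm : ∀ y ∈ R, ∀ s ∈ S, y * s = s * y)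
    (hS : ¬ r ∣ Nat.card S) (hRN : R ≤ N) (hSN : S ≤ N) (hNR : N ≤ Subgroup.normalizer (R : Set L))
    (hNS : N ≤ Subgroup.normalizer (S : Set L))
    (hsemi : ∀ n ∈ N, ∀ y ∈ R, y ≠ 1 → n * y = y * n → n ∈ R ⊔ S)
    (hfus : ∀ g : L, ∀ y ∈ R, y ≠ 1 → ∀ s ∈ S, ∀ y' ∈ R, y' ≠ 1 → ∀ s' ∈ S,
      g * (y * s) * g⁻¹ = y' * s' → g ∈ N)
    (he : (R ⊔ S).relIndex N + 2 ≤ r) {χ : L → ℂ} (hχ : IsIrrCharacter L χ) {deg : ℕ} (hdeg : χ 1 = deg)
    (hrd : r ∣ deg) {y : L} (hy : y ∈ R) (hy1 : y ≠ 1) {s : L} (hs : s ∈ S) : χ (y * s) = 0 := by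
  classical
  have hr : r.Prime := Fact.out
  have hcl := isClassFunction_irr hχ
  have hchar := isCharacter_of_irr hχ
  haveI : Nontrivial R := ⟨⟨⟨y, hy⟩, 1, fun e => hy1 (congrArg Subtype.val e)⟩⟩
  let Φ : R × S →* L := MonoidHom.noncommCoprod R.subtype S.subtype fun a b => hcomm a a.2 b b.2
  have hΦ : ∀ p : R × S, Φ p = (p.1 : L) * p.2 := fun p => rfl
  have hRS : ∀ x : L, x ∈ R → x ∈ S → x = 1 := fun x hxR hxS => by
    obtain ⟨k, hk⟩ := hR ⟨x, hxR⟩
    refine orderOf_eq_one_iff.mp (Nat.eq_one_of_dvd_coprimes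
      ((hr.coprime_iff_not_dvd.mpr hS).pow_left k) (orderOf_dvd_of_pow_eq_one (congrArg Subtype.val hk))
      (Subgroup.orderOf_dvd_natCard S hxS))
  have hinj : Function.Injective Φ := by
    refine (injective_iff_map_eq_one Φ).mpr fun p hp => ?_
    rw [hΦ] at hp
    have h1 : (p.1 : L) = (p.2 : L)⁻¹ := eq_inv_of_mul_eq_one_left hp
    have h2 := hRS p.1 p.1.2 (h1 ▸ inv_mem p.2.2)
    rw [h2, one_mul] at hp
    exact Prod.ext (Subtype.ext h2) (Subtype.ext hp)
  have hrange : Φ.range = R ⊔ S := by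
    refine (MonoidHom.noncommCoprod_range R.subtype S.subtype _).trans ?_
    rw [Subgroup.range_subtype, Subgroup.range_subtype]
  set e := (R ⊔ S).relIndex N with he'
  have hrR : r ∣ Nat.card R := by
    obtain ⟨k, hk⟩ := IsPGroup.iff_card.mp hR
    rw [hk]
    refine dvd_pow_self r fun h0 => ?_
    rw [h0, pow_zero] at hk
    exact (Finite.one_lt_card (α := R)).ne' hk
  set Q := Nat.card R with hQ
  set sS := Nat.card S with hsS
  have hcardN : Nat.card N = e * (Q * sS) := by
    have h1 : Nat.card (R × S) = Nat.card (R ⊔ S : Subgroup L) := by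
      rw [← hrange]; exact Nat.card_congr (MonoidHom.ofInjective hinj).toEquiv
    rw [← Nat.card_prod, h1, ← Nat.card_congr (Subgroup.subgroupOfEquivOfLe (sup_le hRN hSN)).toEquiv]
    exact (Subgroup.index_mul_card _).symm
  have hbound : ∑ p ∈ ((Finset.univ : Finset R).erase 1) ×ˢ (Finset.univ : Finset S), ‖χ (Φ p)‖ ^ 2 ≤
      ((e * (Q * sS) : ℕ) : ℝ) := by
    refine normSq_sum_le hχ _ (fun p => Φ p) _ fun x => ?_
    rw [← hcardN, Nat.card_eq_fintype_card]
    rcases ((Finset.univ ×ˢ ((Finset.univ.erase (1 : R)) ×ˢ (Finset.univ : Finset S))).filter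
      fun q : L × (R × S) => q.1 * Φ q.2 * q.1⁻¹ = x).eq_empty_or_nonempty with h | ⟨q0, hq0⟩
    · rw [h, Finset.card_empty]; exact Nat.zero_le _
    rw [← Finset.card_univ, ← Finset.card_map (f := ⟨fun n : N => (n : L), Subtype.val_injective⟩)]
    refine Finset.card_le_card_of_injOn (fun q => q0.1⁻¹ * q.1) (fun q hq => ?_) ?_
    · simp only [Finset.coe_map, Function.Embedding.coeFn_mk, Finset.coe_univ, Set.image_univ, Subtype.range_coe_subtype,
        Set.mem_setOf_eq]
      simp only [Finset.coe_filter, Finset.mem_product, Finset.mem_univ, true_and, Finset.mem_erase, and_true,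
        Set.mem_setOf_eq] at hq
      simp only [Finset.mem_filter, Finset.mem_product, Finset.mem_univ, true_and, Finset.mem_erase, and_true] at hq0
      refine hfus _ _ q.2.1.2 (fun e => hq.1 (Subtype.ext e)) _ q.2.2.2 _ q0.2.1.2
        (fun e => hq0.1 (Subtype.ext e)) _ q0.2.2.2 ?_
      rw [← hΦ, ← hΦ]
      calc q0.1⁻¹ * q.1 * Φ q.2 * (q0.1⁻¹ * q.1)⁻¹ = q0.1⁻¹ * (q.1 * Φ q.2 * q.1⁻¹) * q0.1 := by group
        _ = Φ q0.2 := by rw [hq.2, ← hq0.2]; group
    · intro q hq q' hq' h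
      simp only [Finset.coe_filter, Set.mem_setOf_eq] at hq hq'
      have h1 : q.1 = q'.1 := mul_left_cancel h
      refine Prod.ext h1 (hinj ?_)
      have h2 := hq.2.trans hq'.2.symm
      rw [h1] at h2
      exact mul_left_cancel (mul_right_cancel h2)
  -- coefficients
  let f : R → S → ℂ := fun a b => χ (Φ (a, b))
  let g : IrrCharacter S → R → ℂ := fun μ a => classInner (f a) (μ : S → ℂ)
  let P : IrrCharacter R → IrrCharacter S → R × S → ℂ := fun φ μ p => (φ : R → ℂ) p.1 * (μ : S → ℂ) p.2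
  have hRcomm : ∀ a b : R, a * b = b * a := fun a b => Subtype.ext (hRab a a.2 b b.2)
  have hφ1 : ∀ φ : IrrCharacter R, (φ : R → ℂ) 1 = 1 := fun φ => degree_one_of_commutative hRcomm φ.2
  have hga : ∀ (φ : IrrCharacter R) (μ : IrrCharacter S), classInner (g μ) (φ : R → ℂ) = classInner (fun p => χ (Φ p)) (P φ μ) := fun φ μ => by
    simp only [classInner, g, f, P, Fintype.sum_prod_type, Nat.card_prod, Nat.cast_mul, mul_inv, map_mul,
      Finset.mul_sum, Finset.sum_mul]
    exact Finset.sum_congr rfl fun a _ => Finset.sum_congr rfl fun b _ => by ring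
  have hnat : ∀ (φ : IrrCharacter R) (μ : IrrCharacter S), ∃ n : ℕ, classInner (g μ) (φ : R → ℂ) = n := fun φ μ => by
    rw [hga]
    exact classInner_char_nat (isCharacter_comp hchar Φ)
      (isCharacter_mul (isCharacter_comp (isCharacter_of_irr φ.2) (MonoidHom.fst R S))
        (isCharacter_comp (isCharacter_of_irr μ.2) (MonoidHom.snd R S)))
  choose a ha using hnat
  have hcardR : Fintype.card (IrrCharacter R) = Q := by
    have h := sum_irr_degree_sq (G := R)
    simp only [hφ1, one_pow, Finset.sum_const, Finset.card_univ, nsmul_eq_mul, mul_one] at h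
    exact_mod_cast h
  have hgcl : ∀ μ, IsClassFunction R (g μ) := fun μ x h => by rw [hRcomm h x, mul_inv_cancel_right]
  have hg1 : ∀ μ, g μ 1 = ∑ φ, (a φ μ : ℂ) := fun μ => by
    conv_lhs => rw [eq_sum_irr (hgcl μ)]
    simp [Finset.sum_apply, ha, hφ1]
  have hpar : ∀ μ, ∑ x : R, g μ x * conj (g μ x) = (Q : ℂ) * ∑ φ, ((a φ μ : ℂ)) ^ 2 := fun μ => by
    have h := classInner_eq_sum_irr (b := g μ) (hgcl μ)
    have h' : ∀ φ : IrrCharacter R, classInner (φ : R → ℂ) (g μ) = (a φ μ : ℂ) := fun φ => by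
      rw [← classInner_comm (g μ), ha, map_natCast]
    simp only [ha, h'] at h
    rw [classInner, inv_mul_eq_iff_eq_mul₀ (Nat.cast_ne_zero.mpr Nat.card_pos.ne')] at h
    rw [h, hQ]
    simp only [sq]
  let D : IrrCharacter S → ℤ := fun μ => (Q : ℤ) * ∑ φ, (a φ μ : ℤ) ^ 2 - (∑ φ, (a φ μ : ℤ)) ^ 2
  have hD : ∀ μ, ((D μ : ℤ) : ℝ) = ∑ x ∈ (Finset.univ : Finset R).erase 1, ‖g μ x‖ ^ 2 := fun μ => by
    apply Complex.ofReal_injective
    have h := hpar μ
    rw [← Finset.add_sum_erase _ _ (Finset.mem_univ (1 : R)), hg1] at h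
    simp only [map_sum, map_natCast] at h
    simp only [Complex.ofReal_sum, Complex.ofReal_pow, ← Complex.mul_conj', Complex.ofReal_intCast, D]
    push_cast
    linear_combination -h
  have hfpar : ∀ x : R, ∑ μ, ‖g μ x‖ ^ 2 = (sS : ℝ)⁻¹ * ∑ b : S, ‖χ (Φ (x, b))‖ ^ 2 := fun x => by
    apply Complex.ofReal_injective
    have hfc : IsClassFunction S (f x) := fun b c => by
      show χ (Φ (x, c * b * c⁻¹)) = χ (Φ (x, b))
      rw [show (x, c * b * c⁻¹) = ((1 : R), c) * (x, b) * ((1 : R), c)⁻¹ by simp, map_mul, map_mul, map_inv, hcl]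
    have h := classInner_eq_sum_irr (b := f x) hfc
    rw [Finset.sum_congr rfl fun (μ : IrrCharacter S) _ => by rw [← classInner_comm (f x) (μ : S → ℂ)]] at h
    simp only [Complex.ofReal_sum, Complex.ofReal_pow, ← Complex.mul_conj', Complex.ofReal_mul, Complex.ofReal_inv,
      Complex.ofReal_natCast]
    exact h.symm
  have hT : ∑ μ, ((D μ : ℤ) : ℝ) = (sS : ℝ)⁻¹ *
      ∑ p ∈ ((Finset.univ : Finset R).erase 1) ×ˢ (Finset.univ : Finset S), ‖χ (Φ p)‖ ^ 2 := by
    simp only [hD]
    rw [Finset.sum_comm, Finset.sum_product, Finset.mul_sum]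
    exact Finset.sum_congr rfl fun x _ => hfpar x
  have hTle : ∑ μ, D μ ≤ (e : ℤ) * Q := by
    have h : ((∑ μ, D μ : ℤ) : ℝ) ≤ ((e * Q : ℕ) : ℝ) := by
      rw [Int.cast_sum, hT]
      have hpos : (0 : ℝ) < sS := Nat.cast_pos.mpr Nat.card_pos
      rw [inv_mul_le_iff₀ hpos]
      refine hbound.trans (le_of_eq ?_)
      push_cast; ring
    exact_mod_cast h
  have hD0 : ∀ μ, 0 ≤ D μ := fun μ => by
    have : (0 : ℝ) ≤ ((D μ : ℤ) : ℝ) := by rw [hD]; exact Finset.sum_nonneg fun _ _ => sq_nonneg _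
    exact_mod_cast this
  -- the normaliser
  letI := irrAct R
  letI := irrAct S
  letI : MulAction N (IrrCharacter R) := MulAction.compHom _ (conjS R hNR)
  letI : MulAction N (IrrCharacter S) := MulAction.compHom _ (conjS S hNS)
  have hsmulR : ∀ (n : N) (φ : IrrCharacter R) (x : R),
      ((n • φ : IrrCharacter R) : R → ℂ) x = (φ : R → ℂ) (conjS R hNR n⁻¹ x) := fun n φ x => by
    show (φ : R → ℂ) ((conjS R hNR n)⁻¹ x) = _
    rw [map_inv]
  have hsmulS : ∀ (n : N) (μ : IrrCharacter S) (x : S),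
      ((n • μ : IrrCharacter S) : S → ℂ) x = (μ : S → ℂ) (conjS S hNS n⁻¹ x) := fun n μ x => by
    show (μ : S → ℂ) ((conjS S hNS n)⁻¹ x) = _
    rw [map_inv]
  have hasmul : ∀ (n : N) φ μ, a (n • φ) (n • μ) = a φ μ := fun n φ μ => by
    have h : ((a (n • φ) (n • μ) : ℕ) : ℂ) = (a φ μ : ℂ) := by
      rw [← ha, ← ha, hga, hga]
      simp only [classInner, P]
      congr 1
      refine Fintype.sum_equiv ((conjS R hNR n⁻¹).toEquiv.prodCongr (conjS S hNS n⁻¹).toEquiv) _ _ fun p => ?_
      simp only [Equiv.prodCongr_apply, MulEquiv.toEquiv_eq_coe, EquivLike.coe_coe, Prod.map, hsmulR, hsmulS]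
      congr 1
      rw [hΦ, hΦ]
      show χ ((p.1 : L) * p.2) = χ ((conjS R hNR n⁻¹ p.1 : L) * (conjS S hNS n⁻¹ p.2 : L))
      rw [conjS_apply, conjS_apply, ← hcl ((p.1 : L) * p.2) ((n⁻¹ : N) : L)]
      congr 1; group
    exact_mod_cast h
  have hDsmul : ∀ (n : N) μ, D (n • μ) = D μ := fun n μ => by
    show (Q : ℤ) * _ - _ = _
    rw [← Equiv.sum_comp (MulAction.toPerm n : Equiv.Perm (IrrCharacter R)),
      ← Equiv.sum_comp (MulAction.toPerm n : Equiv.Perm (IrrCharacter R)) (fun φ => (a φ (n • μ) : ℤ))]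
    simp only [MulAction.toPerm_apply, hasmul, D]
  let one : IrrCharacter R := ⟨fun _ => 1, isIrrCharacter_one⟩
  set K : Subgroup N := (R ⊔ S).subgroupOf N with hK
  have hzero : ∀ μ, D μ = 0 := fun μ => by
    set St := MulAction.stabilizer N μ with hSt
    have hKSt : K ≤ St := fun n hn => by
      rw [hK, Subgroup.mem_subgroupOf, ← hrange] at hn
      obtain ⟨⟨x, c⟩, hxc⟩ := MonoidHom.mem_range.mp hn
      rw [hSt, MulAction.mem_stabilizer_iff]
      refine Subtype.ext (funext fun b => ?_)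
      rw [hsmulS]
      have h : conjS S hNS n⁻¹ b = c⁻¹ * b * c := Subtype.ext (by
        rw [conjS_apply]
        push_cast
        rw [← hxc, hΦ, inv_inv, mul_inv_rev]
        have hx : ((x : L) * ((c : L)⁻¹ * b * c)) = (c : L)⁻¹ * b * c * x :=
          hcomm x x.2 _ (c⁻¹ * b * c).2
        calc (c : L)⁻¹ * (x : L)⁻¹ * b * ((x : L) * c) = (c : L)⁻¹ * ((x : L)⁻¹ * ((b : L) * x)) * c := by group
          _ = _ := by rw [← hcomm x x.2 b b.2, inv_mul_cancel_left])
      have hμcl := isClassFunction_irr μ.2 b c⁻¹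
      rw [inv_inv] at hμcl
      rw [h, hμcl]
    set d := K.relIndex St with hd
    have hde : d * St.index = e := by rw [hd, Subgroup.relIndex_mul_index hKSt]; rfl
    have hd0 : 0 < d := Nat.pos_of_ne_zero (Subgroup.index_ne_zero_of_finite)
    have horb : (St.index : ℤ) * D μ ≤ (e : ℤ) * Q := by
      refine le_trans ?_ hTle
      rw [hSt, MulAction.index_stabilizer, Set.ncard_eq_toFinset_card _ (Set.toFinite _)]
      refine le_trans (le_of_eq ?_) (Finset.sum_le_sum_of_subset_of_nonneg (Finset.subset_univ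
        (Set.toFinite (MulAction.orbit N μ)).toFinset) fun x _ _ => hD0 x)
      rw [Finset.sum_congr rfl (g := fun _ => D μ) (fun x hx => ?_), Finset.sum_const, nsmul_eq_mul]
      obtain ⟨n, rfl⟩ := MulAction.mem_orbit_iff.mp ((Set.Finite.mem_toFinset _).mp hx)
      exact hDsmul n μ
    have hi0 : (0 : ℤ) < St.index := Nat.cast_pos.mpr (Nat.pos_of_ne_zero Subgroup.index_ne_zero_of_finite)
    have hDle : D μ ≤ (d : ℤ) * Q := by
      refine le_of_mul_le_mul_left ?_ hi0
      calc (St.index : ℤ) * D μ ≤ (e : ℤ) * Q := horb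
        _ = (St.index : ℤ) * ((d : ℤ) * Q) := by rw [← hde]; push_cast; ring
    have hdr : d + 2 ≤ r := le_trans (Nat.add_le_add_right (Nat.le_of_dvd (by
      rw [← hde]; exact Nat.mul_pos hd0 (by exact_mod_cast hi0)) ⟨_, hde.symm⟩) 2) he
    have hbinv : ∀ n ∈ St, ∀ φ, a (n • φ) μ = a φ μ := fun n hn φ => by
      conv_lhs => rw [← MulAction.mem_stabilizer_iff.mp hn]
      exact hasmul n φ μ
    let b : IrrCharacter R → ℤ := fun φ => (a φ μ : ℤ) - a one μ
    have hb := eq_zero_of_small_variance one b (by simp [b]) (r := r) (d := d) hr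
      (by rw [hcardR]; exact hrR)
      hd0 hdr ?_ ?_ ?_
    · -- constant coefficients
      show (Q : ℤ) * _ - _ = 0
      have h : ∀ φ, (a φ μ : ℤ) = a one μ := fun φ => sub_eq_zero.mp (hb φ)
      simp only [h, Finset.sum_const, Finset.card_univ, hcardR, nsmul_eq_mul]
      ring
    · -- level sets
      intro v
      have hone : ∀ n : St, (n : N) • one = one := fun n => Subtype.ext (funext fun x => by rw [hsmulR])
      let β := {φ : IrrCharacter R // φ ≠ one ∧ b φ = v}
      letI : MulAction St β :=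
        { smul := fun n φ => ⟨(n : N) • φ.1, fun h => φ.2.1 (smul_left_cancel (n : N) (h.trans (hone n).symm)), by
            show (a _ μ : ℤ) - _ = v
            rw [hbinv n n.2]; exact φ.2.2⟩
          one_smul := fun φ => Subtype.ext (one_smul N φ.1)
          mul_smul := fun n m φ => Subtype.ext (mul_smul (n : N) m φ.1) }
      have h := index_dvd_card_of_stabilizer (Γ := St) (β := β) (K.subgroupOf St) fun φ => by
        ext n
        rw [MulAction.mem_stabilizer_iff, Subgroup.mem_subgroupOf]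
        refine ⟨fun h => ?_, fun h => Subtype.ext ?_⟩
        · have hfix : ((n : N) • φ.1) = φ.1 := congrArg Subtype.val h
          obtain ⟨lam, hlam⟩ := exists_hom_of_degree_one (isCharacter_of_irr φ.1.2) (hφ1 _)
          by_contra hnK
          let t : R →* R := MonoidHom.mk' (fun x => conjS R hNR (n : N)⁻¹ x * x⁻¹) fun x x' => by
            rw [map_mul, mul_inv_rev, mul_assoc (conjS R hNR (n : N)⁻¹ x) x⁻¹, hRcomm x⁻¹]
            group
          have ht : Function.Injective t := (injective_iff_map_eq_one t).mpr fun x hx => by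
            by_contra hx1
            refine hnK ?_
            rw [hK, Subgroup.mem_subgroupOf]
            have hx' : ((n : N) : L)⁻¹ * x * ((n : N) : L) = x := by
              have h2 := congrArg Subtype.val (mul_inv_eq_one.mp hx)
              rwa [conjS_apply, Subgroup.coe_inv, inv_inv] at h2
            refine hsemi _ (n : N).2 x x.2 (fun e => hx1 (Subtype.ext e)) ?_
            calc ((n : N) : L) * x = ((n : N) : L) * (((n : N) : L)⁻¹ * x * ((n : N) : L)) := by rw [hx']
              _ = (x : L) * ((n : N) : L) := by group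
          refine φ.2.1 (Subtype.ext (funext fun z => ?_))
          obtain ⟨x, rfl⟩ := (Finite.injective_iff_surjective.mp ht) z
          show (φ.1 : R → ℂ) (conjS R hNR (n : N)⁻¹ x * x⁻¹) = 1
          have h3 := congrFun (congrArg Subtype.val hfix) x
          rw [hsmulR] at h3
          rw [hlam] at h3 ⊢
          beta_reduce at h3 ⊢
          rw [map_mul, Units.val_mul, h3, ← Units.val_mul, ← map_mul, mul_inv_cancel, map_one, Units.val_one]
        · refine Subtype.ext (funext fun x => ?_)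
          show (((n : N) • φ.1 : IrrCharacter R) : R → ℂ) x = _
          rw [hsmulR]
          have hn' := h
          rw [hK, Subgroup.mem_subgroupOf, ← hrange] at hn'
          obtain ⟨⟨x', c⟩, hxc⟩ := MonoidHom.mem_range.mp hn'
          refine congrArg _ (Subtype.ext ?_)
          rw [conjS_apply, Subgroup.coe_inv, inv_inv, ← hxc, hΦ, mul_inv_rev]
          calc (c : L)⁻¹ * (x' : L)⁻¹ * x * ((x' : L) * c) = (c : L)⁻¹ * ((x' : L)⁻¹ * ((x : L) * x')) * c := by group
            _ = x := by rw [hRab x x.2 x' x'.2, inv_mul_cancel_left, mul_assoc, hcomm x x.2 c c.2, inv_mul_cancel_left]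
      rw [Nat.card_eq_fintype_card, Fintype.card_subtype] at h
      rw [hd, show K.relIndex St = (K.subgroupOf St).index from rfl]
      refine h.trans (dvd_of_eq (congrArg Finset.card (Finset.ext fun φ => ?_)))
      simp
    · -- the sum
      have hsum : (r : ℤ) ∣ ∑ φ, (a φ μ : ℤ) := by
        have hint : IsIntegral ℤ ((((sS * ∑ φ, a φ μ : ℕ) : ℚ) / r : ℚ) : ℂ) := by
          push_cast
          rw [← hg1 μ]
          have hchi : ∀ c : S, IsIntegral ℤ (χ (Φ (1, c)) / r) := fun c => by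
            have hx : Φ ((1 : R), c) = c := by rw [hΦ]; simp
            rw [hx]
            have hcop : ¬ r ∣ (Subgroup.centralizer ({(c : L)} : Set L)).index := fun h =>
              hidx (h.trans (Subgroup.index_dvd_of_le fun z hz =>
                Subgroup.mem_centralizer_singleton_iff.mpr (hcomm z hz c c.2)))
            obtain ⟨n, ρ, hρ, hρχ⟩ := hχ
            haveI := hρ
            have hn : n = deg := by
              have := congrFun hρχ 1
              rw [ρ.char_one, hdeg, Module.finrank_fin_fun] at this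
              exact_mod_cast this
            have h1 := isIntegral_index_mul_div ρ (c : L)
            rw [hρχ, Module.finrank_fin_fun, hn] at h1
            obtain ⟨j, hj⟩ := hrd
            set k := (Subgroup.centralizer ({(c : L)} : Set L)).index
            have hbez := Nat.gcd_eq_gcd_ab r k
            rw [(hr.coprime_iff_not_dvd.mpr hcop).gcd_eq_one] at hbez
            have hbez' : (1 : ℂ) = (r : ℂ) * ((Nat.gcdA r k : ℤ) : ℂ) + (k : ℂ) * ((Nat.gcdB r k : ℤ) : ℂ) := by
              exact_mod_cast congrArg (fun z : ℤ => (z : ℂ)) hbez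
            have hd' : (deg : ℂ) ≠ 0 := hdeg ▸ irr_ne_zero ⟨n, ρ, hρ, hρχ⟩
            have e1 : χ c / (r : ℂ) = ((Nat.gcdA r k : ℤ) : ℂ) * χ c +
                ((Nat.gcdB r k : ℤ) : ℂ) * (j : ℂ) * ((k : ℂ) * χ c / (deg : ℂ)) := by
              have hj' : (deg : ℂ) = (r : ℂ) * (j : ℂ) := by exact_mod_cast hj
              have hr0 : (r : ℂ) ≠ 0 := Nat.cast_ne_zero.mpr hr.ne_zero
              have hj0 : (j : ℂ) ≠ 0 := fun e => hd' (by rw [hj', e, mul_zero])
              rw [hj']
              field_simp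
              linear_combination (χ c) * hbez'
            rw [e1]
            exact (isIntegral_algebraMap.mul (isIntegral_of_char hchar _)).add
              ((isIntegral_algebraMap.mul (isIntegral_algebraMap (R := ℤ) (x := (j : ℤ)))).mul h1)
          have e2 : (sS : ℂ) * g μ 1 / r = ∑ c : S, χ (Φ (1, c)) / r * (μ : S → ℂ) c⁻¹ := by
            simp only [g, f, classInner, ← hsS, char_apply_inv (isCharacter_of_irr μ.2)]
            rw [mul_inv_cancel_left₀ (Nat.cast_ne_zero.mpr Nat.card_pos.ne'), Finset.sum_div]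
            exact Finset.sum_congr rfl fun c _ => by ring
          rw [e2]
          exact IsIntegral.sum _ fun c _ => (hchi c).mul (isIntegral_of_char (isCharacter_of_irr μ.2) _)
        obtain ⟨m, hm⟩ := exists_int_of_isIntegral_ratCast hint
        rw [div_eq_iff (Nat.cast_ne_zero.mpr hr.ne_zero)] at hm
        have h : (r : ℤ) ∣ ((sS * ∑ φ, a φ μ : ℕ) : ℤ) := ⟨m, by
          rw [mul_comm (r : ℤ) m]; exact_mod_cast hm⟩
        have h' := ((hr.coprime_iff_not_dvd.mpr hS)).dvd_of_dvd_mul_left (Int.natCast_dvd_natCast.mp h)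
        simpa using Int.natCast_dvd_natCast.mpr h'
      simp only [b, Finset.sum_sub_distrib, Finset.sum_const, Finset.card_univ, hcardR, nsmul_eq_mul]
      refine dvd_sub hsum (Dvd.dvd.mul_right ?_ _)
      exact Int.natCast_dvd_natCast.mpr hrR
    · -- the variance
      refine le_trans (le_of_eq ?_) (hcardR.symm ▸ hDle)
      show _ = (Q : ℤ) * _ - _
      simp only [b, sub_sq, Finset.sum_add_distrib, Finset.sum_sub_distrib, Finset.sum_const, Finset.card_univ,
        hcardR, nsmul_eq_mul, ← Finset.sum_mul, ← Finset.mul_sum]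
      ring
  -- conclusion
  have hsum0 : ∑ p ∈ ((Finset.univ : Finset R).erase 1) ×ˢ (Finset.univ : Finset S), ‖χ (Φ p)‖ ^ 2 = 0 := by
    have h := hT
    simp only [hzero, Int.cast_zero, Finset.sum_const_zero] at h
    exact (mul_eq_zero.mp h.symm).resolve_left (inv_ne_zero (Nat.cast_ne_zero.mpr Nat.card_pos.ne'))
  have h := (Finset.sum_eq_zero_iff_of_nonneg fun p _ => sq_nonneg _).mp hsum0 (⟨y, hy⟩, ⟨s, hs⟩)
    (Finset.mem_product.mpr ⟨Finset.mem_erase.mpr ⟨fun e => hy1 (congrArg Subtype.val e), Finset.mem_univ _⟩,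
      Finset.mem_univ _⟩)
  rw [pow_eq_zero_iff two_ne_zero, norm_eq_zero, hΦ] at h
  exact h

/-- The vanishing lemma for the centraliser of a semiregular abelian Sylow subgroup. -/
theorem vanish_of_semiregular (hR : IsPGroup r R) (hidx : ¬ r ∣ R.index)
    (hRab : ∀ y ∈ R, ∀ y' ∈ R, y * y' = y' * y)
    (hC : ∀ y ∈ R, y ≠ 1 → Subgroup.centralizer ({y} : Set L) ≤ Subgroup.centralizer (R : Set L))
    (he : (Subgroup.centralizer (R : Set L)).relIndex (Subgroup.normalizer (R : Set L)) + 2 ≤ r)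
    {χ : L → ℂ} (hχ : IsIrrCharacter L χ) {deg : ℕ} (hdeg : χ 1 = deg) (hrd : r ∣ deg) {c : L}
    (hc : c ∈ Subgroup.centralizer (R : Set L)) (hrc : r ∣ orderOf c) : χ c = 0 := by
  classical
  have hr : r.Prime := Fact.out
  set C := Subgroup.centralizer (R : Set L) with hCdef
  have hRC : R ≤ C := fun y hy z hz => hRab z hz y hy
  haveI hnorm : (R.subgroupOf C).Normal := ⟨fun y hy g => by
    rw [Subgroup.mem_subgroupOf] at hy ⊢
    push_cast
    rw [(Subgroup.mem_centralizer_iff.mp g.2 _ hy).symm, mul_inv_cancel_right]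
    exact hy⟩
  obtain ⟨k, hk⟩ := IsPGroup.iff_card.mp hR
  have hcardR : Nat.card (R.subgroupOf C) = r ^ k := by
    rw [Nat.card_congr (Subgroup.subgroupOfEquivOfLe hRC).toEquiv, hk]
  have hndvd : ¬ r ∣ (R.subgroupOf C).index := fun h =>
    hidx (h.trans (Subgroup.relIndex_dvd_index_of_le hRC))
  have hcop : Nat.Coprime (Nat.card (R.subgroupOf C)) (R.subgroupOf C).index := by
    rw [hcardR]; exact (hr.coprime_iff_not_dvd.mpr hndvd).pow_left k
  obtain ⟨S', hS'⟩ := Subgroup.exists_right_complement'_of_coprime hcop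
  set S := S'.map C.subtype with hSdef
  have hSC : S ≤ C := Subgroup.map_subtype_le S'
  have hScard : Nat.card S = (R.subgroupOf C).index := by
    rw [hSdef, Nat.card_congr (Subgroup.equivMapOfInjective S' C.subtype C.subtype_injective).toEquiv.symm]
    exact hS'.symm.index_eq_card.symm
  have hS : ¬ r ∣ Nat.card S := hScard ▸ hndvd
  have hcomm : ∀ y ∈ R, ∀ s ∈ S, y * s = s * y := fun y hy s hs => hSC hs y hy
  have hdec : ∀ x ∈ C, ∃ y ∈ R, ∃ s ∈ S, x = y * s := fun x hx => by
    obtain ⟨⟨y, s⟩, h⟩ := hS'.2 ⟨x, hx⟩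
    exact ⟨(y : C), Subgroup.mem_subgroupOf.mp y.2, (s : C), Subgroup.mem_map_of_mem _ s.2,
      (congrArg Subtype.val h).symm⟩
  have hpowy : ∀ y ∈ R, y ^ Nat.card S = 1 → y = 1 := fun y hy h => by
    obtain ⟨j, hj⟩ := hR ⟨y, hy⟩
    exact orderOf_eq_one_iff.mp (Nat.eq_one_of_dvd_coprimes ((hr.coprime_iff_not_dvd.mpr hS).pow_left j)
      (orderOf_dvd_of_pow_eq_one (congrArg Subtype.val hj)) (orderOf_dvd_of_pow_eq_one h))
  have hpows : ∀ s ∈ S, s ^ Nat.card S = 1 := fun s hs =>
    congrArg Subtype.val (pow_card_eq_one' (x := (⟨s, hs⟩ : S)))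
  have hpow : ∀ y ∈ R, ∀ s ∈ S, (y * s) ^ Nat.card S = y ^ Nat.card S := fun y hy s hs => by
    rw [Commute.mul_pow (hcomm y hy s hs), hpows s hs, mul_one]
  set N := Subgroup.normalizer (R : Set L)
  have hCN : C ≤ N := fun x hx => Subgroup.mem_normalizer_fintype fun y hy => by
    show x * y * x⁻¹ ∈ R
    rw [← hx y hy, mul_inv_cancel_right]; exact hy
  have hNS : N ≤ Subgroup.normalizer (S : Set L) := fun n hn => Subgroup.mem_normalizer_fintype fun s hs => by
    show n * s * n⁻¹ ∈ S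
    have hnC : n * s * n⁻¹ ∈ C := fun y hy => by
      have h := hSC hs (n⁻¹ * y * n) ((Subgroup.mem_normalizer_iff''.mp hn y).mp hy)
      calc y * (n * s * n⁻¹) = n * ((n⁻¹ * y * n) * s) * n⁻¹ := by group
        _ = n * (s * (n⁻¹ * y * n)) * n⁻¹ := by rw [h]
        _ = n * s * n⁻¹ * y := by group
    obtain ⟨y, hy, s', hs', h⟩ := hdec _ hnC
    have h1 : (n * s * n⁻¹) ^ Nat.card S = 1 := by rw [conj_pow, hpows s hs, mul_one, mul_inv_cancel]
    rw [h, hpow y hy s' hs'] at h1
    rw [h, hpowy y hy h1, one_mul]; exact hs'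
  have hsup : R ⊔ S = C := le_antisymm (sup_le hRC hSC) fun x hx => by
    obtain ⟨y, hy, s, hs, rfl⟩ := hdec x hx
    exact mul_mem (Subgroup.mem_sup_left hy) (Subgroup.mem_sup_right hs)
  obtain ⟨y, hy, s, hs, rfl⟩ := hdec c hc
  refine vanish_of_product hR hidx hRab hcomm hS (le_trans hRC hCN) (hSC.trans hCN) le_rfl hNS
    (fun n _ y hy hy1 h => hsup ▸ hC y hy hy1 (Subgroup.mem_centralizer_singleton_iff.mpr h)) ?_ (hsup ▸ he) hχ hdeg
    hrd hy ?_ hs
  · intro g y hy hy1 s hs y' hy' hy'1 s' hs' h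
    have hg : g * y ^ Nat.card S * g⁻¹ = y' ^ Nat.card S := by
      rw [← hpow y hy s hs, ← conj_pow, h, hpow y' hy' s' hs']
    refine Subgroup.mem_normalizer_fintype fun z hz => ?_
    show g * z * g⁻¹ ∈ R
    have hzC : g * z * g⁻¹ ∈ C := hC _ (pow_mem hy' _) (fun e => hy'1 (hpowy y' hy' e))
      (Subgroup.mem_centralizer_singleton_iff.mpr (by
        rw [← hg, show g * z * g⁻¹ * (g * y ^ Nat.card S * g⁻¹) = g * (z * y ^ Nat.card S) * g⁻¹ by group,
          hRab z hz _ (pow_mem hy _)]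
        group))
    obtain ⟨z', hz', t, ht, hzt⟩ := hdec _ hzC
    obtain ⟨j, hj⟩ := hR ⟨z, hz⟩
    have ht1 : t ^ r ^ j * z' ^ r ^ j = 1 := by
      have h1 : (g * z * g⁻¹) ^ r ^ j = 1 := by
        rw [conj_pow, show z ^ r ^ j = 1 from congrArg Subtype.val hj, mul_one, mul_inv_cancel]
      rw [hzt, Commute.mul_pow (hcomm z' hz' t ht)] at h1
      rwa [← ((Commute.pow_pow (hcomm z' hz' t ht)) _ _).eq]
    have hz'1 : z' ^ r ^ j = 1 := by
      refine hpowy _ (pow_mem hz' _) ?_
      have h2 : z' ^ r ^ j = (t ^ r ^ j)⁻¹ := (inv_eq_of_mul_eq_one_right ht1).symm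
      rw [h2]; exact hpows _ (inv_mem (pow_mem ht _))
    rw [hz'1, mul_one] at ht1
    have ht2 : t = 1 := orderOf_eq_one_iff.mp (Nat.eq_one_of_dvd_coprimes
      ((hr.coprime_iff_not_dvd.mpr hS).pow_left j) (orderOf_dvd_of_pow_eq_one ht1)
      (Subgroup.orderOf_dvd_natCard S ht))
    rw [hzt, ht2, mul_one]; exact hz'
  · intro h
    rw [h, one_mul] at hrc
    exact hS (hrc.trans (Subgroup.orderOf_dvd_natCard S hs))

end CfsgLib.Bender.NCTools
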