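import Mathlib

/-!
An integer vector with divisible level sets, a divisible sum and small variance is constant, and a free action of a
quotient makes level sets divisible.

Blueprint: `blueprint/bender/A5c_audit.md`, section 5 (vanishing).
-/

set_option autoImplicit false

namespace CfsgLib.Bender.NCTools

open Finset

/-- If all point stabilisers are the same subgroup, its index divides the number of points. -/
theorem index_dvd_card_of_stabilizer {Γ β : Type*} [Group Γ] [MulAction Γ β] [Finite β] (K : Subgroup Γ)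
    (h : ∀ x : β, MulAction.stabilizer Γ x = K) : K.index ∣ Nat.card β := by
  classical
  haveI : Finite (Quotient (MulAction.orbitRel Γ β)) := inferInstance
  haveI := Fintype.ofFinite (Quotient (MulAction.orbitRel Γ β))
  haveI : ∀ ω : Quotient (MulAction.orbitRel Γ β), Finite (Γ ⧸ MulAction.stabilizer Γ (Quotient.out ω)) :=
    fun ω => Finite.of_equiv _ (MulAction.orbitEquivQuotientStabilizer Γ (Quotient.out ω))
  rw [Nat.card_congr (MulAction.selfEquivSigmaOrbitsQuotientStabilizer Γ β), Nat.card_sigma]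
  refine Finset.dvd_sum fun ω _ => ?_
  rw [← Subgroup.index_eq_card, h]

/-- The combinatorial core of the vanishing lemma. -/
theorem eq_zero_of_small_variance {α : Type*} [Fintype α] [DecidableEq α] (o : α) (b : α → ℤ) (ho : b o = 0) {r d : ℕ}
    (hr : r.Prime) (hrQ : r ∣ Fintype.card α) (hd0 : 0 < d) (hdr : d + 2 ≤ r)
    (hdiv : ∀ v : ℤ, d ∣ ((univ.erase o).filter fun x => b x = v).card) (hsum : (r : ℤ) ∣ ∑ x, b x)
    (hvar : (Fintype.card α : ℤ) * ∑ x, b x ^ 2 - (∑ x, b x) ^ 2 ≤ (d : ℤ) * Fintype.card α) :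
    ∀ x, b x = 0 := by
  set A := (univ : Finset α).erase o with hA
  have hsplit : ∀ f : α → ℤ, f o = 0 → ∑ x, f x = ∑ x ∈ A, f x := fun f hf => by
    rw [hA, ← Finset.add_sum_erase univ f (mem_univ o), hf, zero_add]
  have hdvd : ∀ f : ℤ → ℤ, (d : ℤ) ∣ ∑ x ∈ A, f (b x) := fun f => by
    rw [← Finset.sum_fiberwise_of_maps_to' (t := A.image b) (fun x hx => Finset.mem_image_of_mem b hx) f]
    refine Finset.dvd_sum fun v _ => ?_
    rw [Finset.sum_const, nsmul_eq_mul]
    exact Dvd.dvd.mul_right (Int.natCast_dvd_natCast.mpr (hdiv v)) _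
  have hcard : (Fintype.card α : ℤ) = (A.card : ℤ) + 1 := by
    rw [hA, ← Finset.card_univ, ← Finset.card_erase_add_one (mem_univ o)]; push_cast; rfl
  rw [hsplit b ho, hsplit (fun x => b x ^ 2) (by simp [ho]), hcard] at hvar
  rw [hsplit b ho] at hsum
  set S2 := ∑ x ∈ A, b x ^ 2 with hS2
  set B := ∑ x ∈ A, b x with hB
  have hS2d : (d : ℤ) ∣ S2 := hdvd fun v => v ^ 2
  have hBd : (d : ℤ) ∣ B := hdvd fun v => v
  have hBS : |B| ≤ S2 := (Finset.abs_sum_le_sum_abs _ _).trans (Finset.sum_le_sum fun x _ => by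
    rcases eq_or_ne (b x) 0 with h | h
    · simp [h]
    · nlinarith [abs_pos.mpr h, sq_abs (b x), Int.one_le_abs h])
  suffices hzero : S2 = 0 by
    intro x
    rcases eq_or_ne x o with rfl | hx
    · exact ho
    · exact pow_eq_zero_iff two_ne_zero |>.mp
        ((Finset.sum_eq_zero_iff_of_nonneg fun y _ => sq_nonneg (b y)).mp hzero x (Finset.mem_erase.mpr ⟨hx, mem_univ _⟩))
  by_contra hne
  have hS0 : 0 < S2 := lt_of_le_of_ne (Finset.sum_nonneg fun x _ => sq_nonneg (b x)) (Ne.symm hne)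
  have hrZ : (d : ℤ) + 2 ≤ r := by exact_mod_cast hdr
  have hd0' : (0 : ℤ) < d := by exact_mod_cast hd0
  have hrd : IsCoprime (r : ℤ) (d : ℤ) := Nat.isCoprime_iff_coprime.mpr
    ((hr.coprime_iff_not_dvd).mpr fun h => absurd (Nat.le_of_dvd hd0 h) (by omega))
  have hrdB : (r : ℤ) * d ∣ B := hrd.mul_dvd hsum hBd
  by_cases hall : ∃ v, ∀ x ∈ A, b x = v
  · obtain ⟨v, hv⟩ := hall
    have h1 : B = A.card * v := by rw [hB, Finset.sum_congr rfl hv, Finset.sum_const, nsmul_eq_mul]
    have h2 : S2 = A.card * v ^ 2 := by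
      rw [hS2, Finset.sum_congr rfl fun x hx => congrArg (· ^ 2) (hv x hx), Finset.sum_const, nsmul_eq_mul]
    have hrA : ¬ (r : ℤ) ∣ (A.card : ℤ) := fun h => by
      have h1' : (r : ℤ) ∣ (A.card : ℤ) + 1 := hcard ▸ Int.natCast_dvd_natCast.mpr hrQ
      have h' : r ∣ 1 := by exact_mod_cast (Int.dvd_iff_dvd_of_dvd_sub (a := (r : ℤ)) (b := (A.card : ℤ) + 1) (c := 1) (by simpa using h)).mp h1'
      exact hr.one_lt.ne' (Nat.dvd_one.mp h')
    have hv0 : v ≠ 0 := fun e => hne (by rw [h2, e]; ring)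
    have hrv : (r : ℤ) ∣ v := by
      rw [h1] at hsum
      exact ((Nat.prime_iff_prime_int.mp hr).dvd_or_dvd hsum).resolve_left hrA
    have hv2 : (r : ℤ) ^ 2 ≤ v ^ 2 := by
      have h := Int.le_of_dvd (abs_pos.mpr hv0) ((dvd_abs _ _).mpr hrv)
      nlinarith [sq_abs v, h]
    have hA1 : (1 : ℤ) ≤ A.card := by
      rcases Nat.eq_zero_or_pos A.card with h | h
      · exact absurd (by rw [h2, h]; simp) hne
      · exact_mod_cast h
    rw [h1, h2] at hvar
    have h2d : 2 * (d : ℤ) + 1 ≤ v ^ 2 := by nlinarith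
    nlinarith [mul_le_mul_of_nonneg_left h2d (by linarith : (0 : ℤ) ≤ A.card)]
  · push Not at hall
    obtain ⟨x0, hx0⟩ : A.Nonempty := Finset.nonempty_iff_ne_empty.mpr fun h => hne (by rw [hS2, h, Finset.sum_empty])
    obtain ⟨y0, hy0, hy0v⟩ := hall (b x0)
    set F := A.filter fun x => b x = b x0 with hF
    set F' := A.filter fun x => ¬ b x = b x0 with hF'
    have hcF : (F.card : ℤ) + F'.card = A.card := by exact_mod_cast Finset.card_filter_add_card_filter_not _
    have htd : (d : ℤ) ∣ (F.card : ℤ) := Int.natCast_dvd_natCast.mpr (hdiv _)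
    have hAd : (d : ℤ) ∣ (A.card : ℤ) := by simpa using hdvd fun _ => 1
    have ht : (d : ℤ) ≤ F.card :=
      Int.le_of_dvd (by
        have h : 0 < F.card := Finset.card_pos.mpr ⟨x0, by rw [hF, Finset.mem_filter]; exact ⟨hx0, rfl⟩⟩
        exact_mod_cast h) htd
    have ht' : (d : ℤ) ≤ F'.card :=
      Int.le_of_dvd (by exact_mod_cast Finset.card_pos.mpr ⟨y0, Finset.mem_filter.mpr ⟨hy0, hy0v⟩⟩)
        (by rw [show (F'.card : ℤ) = A.card - F.card by linarith]; exact dvd_sub hAd htd)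
    have hpair : ∑ x ∈ A, ∑ y ∈ A, (b x - b y) ^ 2 = 2 * ((A.card : ℤ) * S2 - B ^ 2) := by
      simp only [sub_sq, Finset.sum_add_distrib, Finset.sum_sub_distrib, Finset.sum_const, nsmul_eq_mul,
        ← Finset.mul_sum, ← Finset.sum_mul, hS2, hB]
      ring
    have hone : ∀ x ∈ A, ∀ y ∈ A, b x ≠ b y → (1 : ℤ) ≤ (b x - b y) ^ 2 := fun x _ y _ h => by
      nlinarith [Int.one_le_abs (sub_ne_zero.mpr h), sq_abs (b x - b y)]
    have hhalf : ∀ (U V : Finset α), U ⊆ A → V ⊆ A → (∀ x ∈ U, ∀ y ∈ V, b x ≠ b y) →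
        (U.card : ℤ) * V.card ≤ ∑ x ∈ U, ∑ y ∈ A, (b x - b y) ^ 2 := fun U V hU hV hne' => by
      rw [show (U.card : ℤ) * V.card = ∑ _x ∈ U, ∑ _y ∈ V, (1 : ℤ) by simp]
      exact Finset.sum_le_sum fun x hx => (Finset.sum_le_sum fun y hy => hone x (hU hx) y (hV hy) (hne' x hx y hy)).trans
        (Finset.sum_le_sum_of_subset_of_nonneg hV fun y _ _ => sq_nonneg _)
    have hlow : 2 * ((F.card : ℤ) * F'.card) ≤ ∑ x ∈ A, ∑ y ∈ A, (b x - b y) ^ 2 := by
      rw [← Finset.sum_filter_add_sum_filter_not A (fun x => b x = b x0)]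
      have h1 := hhalf F F' (Finset.filter_subset _ _) (Finset.filter_subset _ _) fun x hx y hy => by
        rw [(Finset.mem_filter.mp hx).2]; exact Ne.symm (Finset.mem_filter.mp hy).2
      have h2 := hhalf F' F (Finset.filter_subset _ _) (Finset.filter_subset _ _) fun x hx y hy => by
        rw [(Finset.mem_filter.mp hy).2]; exact (Finset.mem_filter.mp hx).2
      linarith [mul_comm (F.card : ℤ) F'.card]
    rw [hpair] at hlow
    have hbig : (d : ℤ) * (A.card - d) ≤ (A.card : ℤ) * S2 - B ^ 2 := by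
      nlinarith [mul_nonneg (sub_nonneg.mpr ht) (sub_nonneg.mpr ht')]
    rcases eq_or_ne B 0 with hB0 | hB0
    · -- no sum: too little room
      rw [hB0] at hvar
      have hS : S2 ≤ d := by nlinarith
      obtain ⟨x1, hx1, hb1⟩ : ∃ x ∈ A, b x ≠ 0 := by
        by_contra h
        push Not at h
        exact hne (hS2 ▸ Finset.sum_eq_zero fun x hx => by rw [h x hx]; ring)
      set U := A.filter fun x => b x = b x1 with hU
      have hUd : (d : ℤ) ≤ U.card := Int.le_of_dvd (by
        have h : 0 < U.card := Finset.card_pos.mpr ⟨x1, by rw [hU, Finset.mem_filter]; exact ⟨hx1, rfl⟩⟩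
        exact_mod_cast h) (Int.natCast_dvd_natCast.mpr (hdiv _))
      have hUsq : ∑ x ∈ U, b x ^ 2 = U.card * b x1 ^ 2 := by
        rw [Finset.sum_congr rfl fun x hx => congrArg (· ^ 2) (Finset.mem_filter.mp hx).2, Finset.sum_const,
          nsmul_eq_mul]
      have hsum2 := Finset.sum_filter_add_sum_filter_not A (fun x => b x = b x1) (fun x => b x ^ 2)
      have hrest0 : 0 ≤ ∑ x ∈ A.filter (fun x => ¬ b x = b x1), b x ^ 2 :=
        Finset.sum_nonneg fun x _ => sq_nonneg _
      have h1sq : 1 ≤ b x1 ^ 2 := by nlinarith [Int.one_le_abs hb1, sq_abs (b x1)]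
      rw [← hU, hUsq] at hsum2
      have hrest : ∑ x ∈ A.filter (fun x => ¬ b x = b x1), b x ^ 2 = 0 := by nlinarith
      have hz := (Finset.sum_eq_zero_iff_of_nonneg fun x _ => sq_nonneg (b x)).mp hrest
      have hB' : B = U.card * b x1 := by
        rw [hB, ← Finset.sum_filter_add_sum_filter_not A (fun x => b x = b x1), ← hU,
          Finset.sum_congr rfl fun x hx => (Finset.mem_filter.mp hx).2,
          Finset.sum_eq_zero fun x hx => pow_eq_zero_iff two_ne_zero |>.mp (hz x hx), Finset.sum_const, nsmul_eq_mul,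
          add_zero]
      rcases mul_eq_zero.mp (hB'.symm.trans hB0) with h | h
      · linarith
      · exact hb1 h
    · have hBr : (r : ℤ) * d ≤ |B| := Int.le_of_dvd (abs_pos.mpr hB0) ((dvd_abs _ _).mpr hrdB)
      nlinarith [hbig, hBr, hBS, hvar]

end CfsgLib.Bender.NCTools
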