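import Cfsg.Agent.Lib.FrobAction.QGroupModule
import Cfsg.Agent.Lib.CentralizeOmega

/-!
An element of prime order acting without fixed points on an abelian group centralises, on it, the `q`-groups it
normalises (`q` odd).

Blueprint: `blueprint/bender/A5c_audit.md`, section 4 (HH).
-/

set_option autoImplicit false

namespace CfsgLib.Bender.NCTools

universe u

variable {G : Type u} [Group G] [Finite G]

/-- The commutators of a fixed point free element of prime order with a `q`-group centralise the abelian group. -/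
theorem commutator_centralizes_abelian {q : ℕ} [Fact q.Prime] (hq2 : q ≠ 2) {x : G} (hxp : (orderOf x).Prime)
    (hqx : q ≠ orderOf x) {Q F : Subgroup G} (hQ : IsPGroup q Q) (hFc : ∀ a ∈ F, ∀ b ∈ F, a * b = b * a)
    (hF2 : ¬ 2 ∣ Nat.card F) (hqF : ¬ q ∣ Nat.card F) (hxQ : x ∈ Subgroup.normalizer (Q : Set G))
    (hxF : x ∈ Subgroup.normalizer (F : Set G)) (hQF : Q ≤ Subgroup.normalizer (F : Set G))
    (hfix : ∀ f ∈ F, x * f = f * x → f = 1) :
    ∀ a ∈ Q, x * a * x⁻¹ * a⁻¹ ∈ Subgroup.centralizer (F : Set G) := by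
  classical
  intro a ha
  have hq : q.Prime := Fact.out
  haveI := Fact.mk hxp
  have hgQ : x * a * x⁻¹ * a⁻¹ ∈ Q := mul_mem ((Subgroup.mem_normalizer_iff.mp hxQ a).mp ha) (inv_mem ha)
  set g := x * a * x⁻¹ * a⁻¹ with hg
  set T := F ⊓ Subgroup.centralizer ({g} : Set G) with hT
  suffices hdvd : Nat.card F ∣ Nat.card T by
    have hTF : T = F := Subgroup.eq_of_le_of_card_ge inf_le_left (Nat.le_of_dvd Nat.card_pos hdvd)
    refine Subgroup.mem_centralizer_iff.mpr fun f hf => ?_
    rw [SetLike.mem_coe, ← hTF] at hf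
    exact Subgroup.mem_centralizer_singleton_iff.mp hf.2
  rw [Nat.dvd_iff_prime_pow_dvd_dvd]
  intro p k hp hpk
  rcases Nat.eq_zero_or_pos k with hk | hk
  · rw [hk, pow_zero]; exact one_dvd _
  haveI := Fact.mk hp
  have hpF : p ∣ Nat.card F := (dvd_pow_self p hk.ne').trans hpk
  have hp2 : p ≠ 2 := fun e => hF2 (e ▸ hpF)
  have hpq : p ≠ q := fun e => hqF (e ▸ hpF)
  haveI : IsMulCommutative F := ⟨⟨fun s t => Subtype.ext (hFc s s.2 t t.2)⟩⟩
  -- the `p`-part and the elements of order `p`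
  let P : Subgroup G :=
    { carrier := {f | f ∈ F ∧ ∃ j : ℕ, f ^ p ^ j = 1}
      one_mem' := ⟨one_mem F, 0, by simp⟩
      mul_mem' := fun {s t} ⟨hs, i, hi⟩ ⟨ht, j, hj⟩ => ⟨mul_mem hs ht, i + j, by
        rw [(show Commute s t from hFc s hs t ht).mul_pow, pow_add, pow_mul, hi, one_pow, one_mul, mul_comm, pow_mul,
          hj, one_pow]⟩
      inv_mem' := fun {s} ⟨hs, i, hi⟩ => ⟨inv_mem hs, i, by rw [inv_pow, hi, inv_one]⟩ }
  let V : Subgroup G :=
    { carrier := {f | f ∈ F ∧ f ^ p = 1}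
      one_mem' := ⟨one_mem F, one_pow _⟩
      mul_mem' := fun {s t} ⟨hs, hi⟩ ⟨ht, hj⟩ => ⟨mul_mem hs ht, by
        rw [(show Commute s t from hFc s hs t ht).mul_pow, hi, hj, one_mul]⟩
      inv_mem' := fun {s} ⟨hs, hi⟩ => ⟨inv_mem hs, by rw [inv_pow, hi, inv_one]⟩ }
  have hconjV : ∀ y ∈ Subgroup.normalizer (F : Set G), y ∈ Subgroup.normalizer (V : Set G) := fun y hy => by
    refine Subgroup.mem_normalizer_iff.mpr fun f => ?_
    show (f ∈ F ∧ f ^ p = 1) ↔ (y * f * y⁻¹ ∈ F ∧ (y * f * y⁻¹) ^ p = 1)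
    rw [conj_pow, conj_eq_one_iff]
    exact and_congr_left' (Subgroup.mem_normalizer_iff.mp hy f)
  have hgF : g ∈ Subgroup.normalizer (F : Set G) := hQF hgQ
  have hgV : ∀ v ∈ V, g * v * g⁻¹ = v := by
    haveI : IsMulCommutative V := ⟨⟨fun s t => Subtype.ext (hFc s s.2.1 t t.2.1)⟩⟩
    rcases eq_or_ne p (orderOf x) with hpl | hpl
    · -- a `p`-element fixes a non-trivial element of a non-trivial `p`-group
      intro v hv
      suffices h : v = 1 by rw [h, mul_one, mul_inv_cancel]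
      by_contra hv1
      have hV : IsPGroup p V := fun f => ⟨1, Subtype.ext (by rw [pow_one]; exact f.2.2)⟩
      have hX : IsPGroup p (Subgroup.zpowers x) :=
        IsPGroup.of_card (n := 1) (by rw [Nat.card_zpowers, pow_one, hpl])
      have hxV : Subgroup.zpowers x ≤ Subgroup.normalizer (V : Set G) := Subgroup.zpowers_le.mpr (hconjV x hxF)
      letI : MulAction (Subgroup.zpowers x) V := MulAction.compHom _
        (CfsgLib.QGroupModule.conjAut (Subgroup.zpowers x) V hxV : Subgroup.zpowers x →* MulAut V)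
      have hone : (1 : V) ∈ MulAction.fixedPoints (Subgroup.zpowers x) V := fun y =>
        map_one (CfsgLib.QGroupModule.conjAut (Subgroup.zpowers x) V hxV y)
      obtain ⟨m, hm⟩ := IsPGroup.iff_card.mp hV
      have hm0 : m ≠ 0 := fun e => by
        rw [e, pow_zero, Subgroup.card_eq_one] at hm
        have : v ∈ V := hv
        rw [hm, Subgroup.mem_bot] at this
        exact hv1 this
      obtain ⟨w, hw, hw1⟩ := hX.exists_fixed_point_of_prime_dvd_card_of_fixed_point V
        (hm ▸ dvd_pow_self p hm0) hone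
      refine hw1 (Subtype.ext (hfix w w.2.1 ?_).symm)
      have h := congrArg Subtype.val (hw ⟨x, Subgroup.mem_zpowers x⟩)
      exact mul_inv_eq_iff_eq_mul.mp h
    · have hCV : V ⊓ Subgroup.centralizer (Subgroup.zpowers x : Set G) = ⊥ :=
        le_bot_iff.mp fun v hv => Subgroup.mem_bot.mpr (hfix v hv.1.1
          (Subgroup.mem_centralizer_iff.mp hv.2 x (Subgroup.mem_zpowers x)))
      have h := CfsgLib.QGroupModule.commutator_centralizes (p := p) (q := q) (r := orderOf x) hpq hpl hqx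
        (Subgroup.zpowers x) Q V (Nat.card_zpowers x) hQ (fun v hv => hv.2) (Subgroup.zpowers_le.mpr hxQ)
        (Subgroup.zpowers_le.mpr (hconjV x hxF)) (fun y hy => hconjV y (hQF hy)) hCV (fun e => absurd e hq2)
        x (Subgroup.mem_zpowers x) a ha
      intro v hv
      rw [mul_inv_eq_iff_eq_mul]
      exact (Subgroup.mem_centralizer_iff.mp h v hv).symm
  have hgP : g ∈ Subgroup.normalizer (P : Set G) := by
    refine Subgroup.mem_normalizer_iff.mpr fun f => ?_
    show (f ∈ F ∧ ∃ j : ℕ, f ^ p ^ j = 1) ↔ (g * f * g⁻¹ ∈ F ∧ ∃ j : ℕ, (g * f * g⁻¹) ^ p ^ j = 1)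
    simp only [conj_pow, conj_eq_one_iff]
    exact and_congr_left' (Subgroup.mem_normalizer_iff.mp hgF f)
  have hPp : IsPGroup p P := fun f => by
    obtain ⟨j, hj⟩ := f.2.2
    exact ⟨j, Subtype.ext hj⟩
  have hgcop : (orderOf g).Coprime p := by
    obtain ⟨j, hj⟩ := hQ ⟨g, hgQ⟩
    exact Nat.Coprime.coprime_dvd_left (orderOf_dvd_of_pow_eq_one (congrArg Subtype.val hj))
      (((Nat.coprime_primes hq hp).mpr (Ne.symm hpq)).pow_left j)
  have hfixP := CfsgLib.centralizes_of_fixes_order_p hp2 g hgcop P hPp hgP fun f hf hfp => hgV f ⟨hf.1, hfp⟩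
  have hPT : P ≤ T := fun f hf => ⟨hf.1, Subgroup.mem_centralizer_singleton_iff.mpr
    (mul_inv_eq_iff_eq_mul.mp (hfixP f hf)).symm⟩
  obtain ⟨S⟩ : Nonempty (Sylow p F) := inferInstance
  have hle : (S : Subgroup F).map F.subtype ≤ P := fun f hf => by
    obtain ⟨s, hs, rfl⟩ := Subgroup.mem_map.mp hf
    obtain ⟨j, hj⟩ := S.isPGroup' ⟨s, hs⟩
    exact ⟨s.2, j, congrArg Subtype.val (congrArg Subtype.val hj)⟩
  refine Nat.dvd_trans ?_ (Subgroup.card_dvd_of_le (hle.trans hPT))
  rw [Subgroup.card_map_of_injective F.subtype_injective]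
  exact S.pow_dvd_card_of_pow_dvd_card hpk

end CfsgLib.Bender.NCTools
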