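import Cfsg.Agent.Lib.Bender.NCTools.Vanish
import Cfsg.Agent.Lib.CharTheory.TI
import Cfsg.Agent.Lib.CharTheory.PermChar

/-!
An abelian self-centralising subgroup regular on a class of involutions with an odd automiser.

Blueprint: `blueprint/bender/A5c_audit.md`, section 4 (END (NR)).
-/

set_option autoImplicit false
set_option linter.unusedSectionVars false

namespace CfsgLib.Bender.NCTools

open Cfsg CfsgLib.CharTheory
open scoped ComplexConjugate

universe u

variable {G : Type u} [Group G]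

/-- A character of odd degree does not vanish on an involution. -/
theorem char_invol_ne_zero [Finite G] {V : Type*} [AddCommGroup V] [Module ℂ V] [FiniteDimensional ℂ V]
    (ρ : Representation ℂ G V) {z : G} (hz : z * z = 1) (hodd : ¬ 2 ∣ Module.finrank ℂ V) :
    ρ.character z ≠ 0 := by
  intro h0
  have hsq : ρ z * ρ z = 1 := by rw [← map_mul, hz, map_one]
  set P : Module.End ℂ V := (2 : ℂ)⁻¹ • (1 + ρ z) with hP
  have hPP : IsIdempotentElem P := by
    show P * P = P
    rw [hP, smul_mul_smul_comm, mul_add, add_mul, add_mul, hsq, one_mul, mul_one, one_mul]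
    module
  have htr := (LinearMap.isProj_range_iff_isIdempotentElem P).mpr hPP |>.trace
  rw [hP, map_smul, map_add, LinearMap.trace_one, show LinearMap.trace ℂ V (ρ z) = 0 from h0, add_zero,
    smul_eq_mul, inv_mul_eq_iff_eq_mul₀ two_ne_zero] at htr
  exact hodd (Dvd.intro _ (Nat.cast_injective (R := ℂ) (by push_cast; exact htr.symm)))

/-- An irreducible character scalar on an involution with three conjugates in a four group is constant there. -/
theorem char_invol_eq_degree [Finite G] {χ : G → ℂ} (hχ : IsIrrCharacter G χ) {z : G} (hz : z * z = 1)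
    (hfour : ∃ g h : G, z * (g * z * g⁻¹) = h * z * h⁻¹) (hnorm : ‖χ z‖ = ‖χ 1‖) : χ z = χ 1 := by
  obtain ⟨n, ρ, hρ, rfl⟩ := id hχ
  obtain ⟨ω, hω⟩ := eq_smul_id_of_norm_character_eq ρ z (by rw [hnorm, ρ.char_one, Complex.norm_natCast])
  rw [← Module.End.one_eq_id] at hω
  have hconj : ∀ x : G, ρ (x * z * x⁻¹) = ρ z := fun x => by
    rw [map_mul, map_mul, hω, mul_smul_comm, smul_mul_assoc, mul_one, ← map_mul, mul_inv_cancel, map_one]
  obtain ⟨g, h, hgh⟩ := hfour
  have h1 := congrArg ρ hgh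
  rw [map_mul, hconj, hconj, ← map_mul, hz, map_one] at h1
  simp only [Representation.character, ← h1, map_one]

variable [Fintype G]

/-- An abelian self-centralising subgroup regular on a class of involutions with odd automiser: the class commutes,
if it contains a four group. -/
theorem commute_of_regular {z : G} (hz : z * z = 1) (hz1 : z ≠ 1) {J : Subgroup G}
    (hreg : ∀ g : G, ∃! j : J, (j : G) * z * (j : G)⁻¹ = g * z * g⁻¹)
    (hcent : ∀ y ∈ J, y ≠ 1 → Subgroup.centralizer ({y} : Set G) = J)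
    (hodd : ¬ 2 ∣ J.relIndex (Subgroup.normalizer (J : Set G)))
    (hfour : ∃ g h : G, z * (g * z * g⁻¹) = h * z * h⁻¹) (g : G) :
    g * z * g⁻¹ * z = z * (g * z * g⁻¹) := by
  classical
  have hJab : ∀ a b : J, a * b = b * a := fun a b => by
    rcases eq_or_ne (a : G) 1 with ha | ha
    · exact Subtype.ext (by simp [ha])
    · refine Subtype.ext ?_
      have hb : (b : G) ∈ Subgroup.centralizer ({(a : G)} : Set G) := (hcent a a.2 ha).symm ▸ b.2
      exact (Subgroup.mem_centralizer_singleton_iff.mp hb).symm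
  set H := Subgroup.centralizer ({z} : Set G) with hH
  have hmemH : ∀ x : G, x ∈ H ↔ x * z * x⁻¹ = z := fun x => by
    rw [hH, Subgroup.mem_centralizer_singleton_iff, mul_inv_eq_iff_eq_mul]
  have hJH : ∀ j : J, (j : G) ∈ H → j = 1 := fun j hj =>
    (hreg 1).unique (by simpa using (hmemH _).mp hj) (by simp)
  have hindex : H.index = Nat.card J := by
    refine (Nat.card_eq_of_bijective (fun j : J => ((j : G) : G ⧸ H)) ⟨fun a b h => ?_, fun q => ?_⟩).symm
    · have h' := QuotientGroup.eq.mp h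
      exact inv_mul_eq_one.mp (hJH (a⁻¹ * b) (by simpa using h'))
    · obtain ⟨x, rfl⟩ := QuotientGroup.mk_surjective q
      obtain ⟨j, hj, -⟩ := hreg x
      refine ⟨j, QuotientGroup.eq.mpr ((hmemH _).mpr ?_)⟩
      calc (j : G)⁻¹ * x * z * ((j : G)⁻¹ * x)⁻¹ = (j : G)⁻¹ * (x * z * x⁻¹) * j := by group
        _ = z := by rw [← hj]; group
  set π := indFun H (fun _ : H => (1 : ℂ)) with hπ
  have hπJ : ∀ j : J, π j = if j = 1 then (Nat.card J : ℂ) else 0 := fun j => by
    split
    · rename_i h; rw [h, Subgroup.coe_one, hπ, indFun_apply_one, mul_one, hindex]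
    · rename_i h
      refine indFun_eq_zero_of_not_isConj H _ fun x hx => h (hJH j ((hmemH _).mpr ?_))
      obtain ⟨j₀, hj₀, -⟩ := hreg x
      have h1 : (j : G) * (x * z * x⁻¹) * (j : G)⁻¹ = x * z * x⁻¹ := by
        calc _ = x * ((x⁻¹ * j * x) * z * (x⁻¹ * j * x)⁻¹) * x⁻¹ := by group
          _ = _ := by rw [(hmemH _).mp hx]
      rw [← hj₀] at h1
      have hc : (j : G) * j₀ = j₀ * j := congrArg Subtype.val (hJab j j₀)
      calc (j : G) * z * (j : G)⁻¹ = (j₀ : G)⁻¹ * ((j₀ * j) * z * (j₀ * j : G)⁻¹) * j₀ := by group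
        _ = (j₀ : G)⁻¹ * ((j : G) * ((j₀ : G) * z * (j₀ : G)⁻¹) * (j : G)⁻¹) * j₀ := by rw [← hc]; group
        _ = z := by rw [h1]; group
  -- coefficients
  have hπch : IsCharacter G π := isCharacter_indFun H isCharacter_one
  have hφ1 : ∀ φ : IrrCharacter J, (φ : J → ℂ) 1 = 1 := fun φ => degree_one_of_commutative hJab φ.2
  have hnatA : ∀ χ : IrrCharacter G, ∃ n : ℕ, classInner π (χ : G → ℂ) = n := fun χ =>
    classInner_char_nat hπch (isCharacter_of_irr χ.2)
  choose A hA using hnatA
  have hnatB : ∀ (χ : IrrCharacter G) (φ : IrrCharacter J), ∃ n : ℕ,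
      classInner (fun j : J => (χ : G → ℂ) j) (φ : J → ℂ) = n := fun χ φ =>
    classInner_char_nat (isCharacter_restrict (isCharacter_of_irr χ.2) J) (isCharacter_of_irr φ.2)
  choose B hB using hnatB
  have hπsum : π = ∑ χ : IrrCharacter G, (A χ : ℂ) • (χ : G → ℂ) := by
    conv_lhs => rw [hπ, eq_sum_irr (indFun_isClassFunction H _), ← hπ]
    exact Finset.sum_congr rfl fun χ _ => by rw [hA]
  have hAB : ∀ φ, ∑ χ, A χ * B χ φ = 1 := fun φ => by
    have h1 : classInner (fun j : J => π j) (φ : J → ℂ) = 1 := by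
      simp only [classInner, hπJ, ite_mul, zero_mul, Finset.sum_ite_eq', Finset.mem_univ, if_true, hφ1, map_one,
        mul_one]
      exact inv_mul_cancel₀ (Nat.cast_ne_zero.mpr Nat.card_pos.ne')
    have h2 : (fun j : J => π j) = ∑ χ, (A χ : ℂ) • fun j : J => (χ : G → ℂ) j := by
      funext j
      rw [hπsum]
      simp [Finset.sum_apply]
    rw [h2, classInner_sum_left] at h1
    simp only [classInner_smul_left, hB] at h1
    exact_mod_cast h1
  have hc : ∀ φ, ∃ χ, A χ = 1 ∧ B χ φ = 1 ∧ ∀ χ', A χ' * B χ' φ ≠ 0 → χ' = χ := fun φ => by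
    obtain ⟨χ, -, hχ⟩ := Finset.exists_ne_zero_of_sum_ne_zero ((hAB φ).trans_ne one_ne_zero)
    have hle := hAB φ ▸ Finset.single_le_sum (f := fun χ => A χ * B χ φ) (fun _ _ => Nat.zero_le _) (Finset.mem_univ χ)
    have h1 : A χ * B χ φ = 1 := le_antisymm hle (Nat.one_le_iff_ne_zero.mpr hχ)
    refine ⟨χ, Nat.eq_one_of_mul_eq_one_right h1, Nat.eq_one_of_mul_eq_one_left h1, fun χ' h' => ?_⟩
    by_contra hne
    have := hAB φ ▸ Finset.add_le_sum (f := fun χ => A χ * B χ φ) (fun _ _ => Nat.zero_le _) (Finset.mem_univ χ')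
      (Finset.mem_univ χ) hne
    omega
  choose c hcA hcB hcu using hc
  let one : IrrCharacter G := ⟨fun _ => 1, isIrrCharacter_one⟩
  let oneJ : IrrCharacter J := ⟨fun _ => 1, isIrrCharacter_one⟩
  have hAone : A one = 1 := by
    have h := hA one
    rw [hπ, frobenius_reciprocity H _ (isClassFunction_irr one.2)] at h
    have h' : classInner (fun _ : H => (1 : ℂ)) (fun _ : H => (1 : ℂ)) = 1 := classInner_irr_self isIrrCharacter_one
    exact_mod_cast h.symm.trans h'
  have hBone : ∀ φ, B one φ = if φ = oneJ then 1 else 0 := fun φ => by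
    have h := hB one φ
    split
    · rename_i e; subst e
      have h' : classInner (fun _ : J => (1 : ℂ)) (fun _ : J => (1 : ℂ)) = 1 := classInner_irr_self isIrrCharacter_one
      exact_mod_cast h.symm.trans h'
    · rename_i e
      have h' : classInner (fun _ : J => (1 : ℂ)) (φ : J → ℂ) = 0 :=
        classInner_irr_ne oneJ.2 φ.2 fun e' => e (Subtype.ext e'.symm)
      exact_mod_cast h.symm.trans h'
  have hc1 : ∀ φ, c φ = one ↔ φ = oneJ := fun φ => by
    refine ⟨fun h => ?_, fun h => (hcu φ one ?_).symm⟩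
    · by_contra hne
      have := hcB φ
      rw [h, hBone, if_neg hne] at this
      exact zero_ne_one this
    · rw [hAone, hBone, if_pos h]; exact one_ne_zero
  have hrestr : ∀ χ : IrrCharacter G, (χ : G → ℂ) 1 = ∑ φ, (B χ φ : ℂ) := fun χ => by
    have h := congrFun (eq_sum_irr (isClassFunction_char (isCharacter_restrict (isCharacter_of_irr χ.2) J))) 1
    simpa [Finset.sum_apply, hB, hφ1] using h
  set I := (Finset.univ : Finset (IrrCharacter J)).image c with hI
  have hA' : ∀ χ, A χ = if χ ∈ I then 1 else 0 := fun χ => by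
    split
    · rename_i h
      obtain ⟨φ, -, rfl⟩ := Finset.mem_image.mp h
      exact hcA φ
    · rename_i h
      by_contra hne
      obtain ⟨φ, -, hφ⟩ := Finset.exists_ne_zero_of_sum_ne_zero ((hrestr χ).symm.trans_ne (irr_ne_zero χ.2))
      exact h (Finset.mem_image.mpr ⟨φ, Finset.mem_univ _,
        (hcu φ χ (Nat.mul_ne_zero hne (Nat.cast_ne_zero.mp hφ))).symm⟩)
  have hπI : ∀ x, π x = ∑ χ ∈ I, (χ : G → ℂ) x := fun x => by
    rw [hπsum, Finset.sum_apply]
    simp only [Pi.smul_apply, smul_eq_mul, hA', apply_ite Nat.cast, Nat.cast_one, Nat.cast_zero, ite_mul, one_mul,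
      zero_mul, Finset.sum_ite_mem, Finset.univ_inter]
  -- the normaliser
  set N := Subgroup.normalizer (J : Set G) with hN
  letI := irrAct J
  letI : MulAction N (IrrCharacter J) := MulAction.compHom _ (conjS J (le_refl N))
  have hsmul : ∀ (n : N) (φ : IrrCharacter J) (x : J),
      ((n • φ : IrrCharacter J) : J → ℂ) x = (φ : J → ℂ) (conjS J (le_refl N) n⁻¹ x) := fun n φ x => by
    show (φ : J → ℂ) ((conjS J (le_refl N) n)⁻¹ x) = _
    rw [map_inv]
  have hcinv : ∀ (n : N) φ, c (n • φ) = c φ := fun n φ => by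
    refine (hcu (n • φ) (c φ) ?_).symm
    have h : ((B (c φ) (n • φ) : ℕ) : ℂ) = B (c φ) φ := by
      rw [← hB, ← hB]
      simp only [classInner]
      congr 1
      refine Fintype.sum_equiv (conjS J (le_refl N) n⁻¹).toEquiv _ _ fun j => ?_
      rw [hsmul]
      congr 1
      show (c φ : G → ℂ) j = (c φ : G → ℂ) (conjS J (le_refl N) n⁻¹ j : G)
      rw [conjS_apply, isClassFunction_irr (c φ).2]
    rw [hcA, one_mul, Nat.cast_injective h, hcB]
    exact one_ne_zero
  set e := J.relIndex N with he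
  have hstab : ∀ φ, φ ≠ oneJ → MulAction.stabilizer N φ = J.subgroupOf N := fun φ hne => by
    ext n
    rw [MulAction.mem_stabilizer_iff, Subgroup.mem_subgroupOf]
    refine ⟨fun h => ?_, fun h => Subtype.ext (funext fun x => ?_)⟩
    · by_contra hnJ
      obtain ⟨lam, hlam⟩ := exists_hom_of_degree_one (isCharacter_of_irr φ.2) (hφ1 φ)
      let t : J →* J := MonoidHom.mk' (fun x => conjS J (le_refl N) n⁻¹ x * x⁻¹) fun x x' => by
        rw [map_mul, mul_inv_rev, mul_assoc (conjS J (le_refl N) n⁻¹ x) x⁻¹, hJab x⁻¹]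
        group
      have ht : Function.Injective t := (injective_iff_map_eq_one t).mpr fun x hx => by
        by_contra hx1
        have h2 := congrArg Subtype.val (mul_inv_eq_one.mp hx)
        rw [conjS_apply, Subgroup.coe_inv, inv_inv] at h2
        refine hnJ ((hcent x x.2 fun e => hx1 (Subtype.ext e)) ▸ Subgroup.mem_centralizer_singleton_iff.mpr ?_)
        calc (n : G) * x = (n : G) * ((n : G)⁻¹ * x * n) := by rw [h2]
          _ = (x : G) * n := by group
      refine hne (Subtype.ext (funext fun w => ?_))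
      obtain ⟨x, rfl⟩ := (Finite.injective_iff_surjective.mp ht) w
      show (φ : J → ℂ) (conjS J (le_refl N) n⁻¹ x * x⁻¹) = 1
      have h3 := congrFun (congrArg Subtype.val h) x
      rw [hsmul, hlam] at h3
      rw [hlam]
      beta_reduce at h3 ⊢
      rw [map_mul, Units.val_mul, h3, ← Units.val_mul, ← map_mul, mul_inv_cancel, map_one, Units.val_one]
    · rw [hsmul]
      refine congrArg _ (Subtype.ext ?_)
      rw [conjS_apply, Subgroup.coe_inv, inv_inv, mul_assoc,
        show (x : G) * n = n * x from congrArg Subtype.val (hJab x ⟨n, h⟩), inv_mul_cancel_left]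
  have horb : ∀ φ, φ ≠ oneJ → (MulAction.orbit N φ).ncard = e := fun φ hne => by
    rw [← MulAction.index_stabilizer, hstab φ hne]
    rfl
  -- the isometry
  have hTI : ∀ φ φ', φ ≠ oneJ → φ' ≠ oneJ → φ' ∉ MulAction.orbit N φ →
      classInner (indFun J ((φ : J → ℂ) - (φ' : J → ℂ))) (indFun J ((φ : J → ℂ) - (φ' : J → ℂ))) = 2 := fun φ φ' h h' hor => by
    set f : J → ℂ := (φ : J → ℂ) - (φ' : J → ℂ) with hf
    rw [frobenius_reciprocity J f (indFun_isClassFunction J f)]
    have hres : (fun j : J => indFun J f j) = (Nat.card J : ℂ)⁻¹ •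
        ∑ n : N, fun j : J => ((n • φ : IrrCharacter J) : J → ℂ) j - ((n • φ' : IrrCharacter J) : J → ℂ) j := by
      funext j
      simp only [Pi.smul_apply, smul_eq_mul, Finset.sum_apply, hsmul]
      rcases eq_or_ne j 1 with rfl | hj
      · simp [indFun_apply_one, hf, hφ1]
      rw [indFun, ← Finset.sum_subset (Finset.subset_univ ((Finset.univ : Finset G).filter (· ∈ N))) fun x _ hx =>
        extendByZero_of_not_mem _ _ fun hmem => hx (Finset.mem_filter.mpr ⟨Finset.mem_univ _, ?_⟩),
        Finset.sum_subtype (p := (· ∈ N)) _ (fun x => by simp)]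
      · congr 1
        refine Finset.sum_congr rfl fun n _ => ?_
        have hval : ((conjS J (le_refl N) n⁻¹ j : J) : G) = (n : G)⁻¹ * j * n := by
          rw [conjS_apply, Subgroup.coe_inv, inv_inv]
        rw [← hval, extendByZero_coe]
        rfl
      · have hy : x⁻¹ * j * x ≠ 1 := fun e => hj (Subtype.ext (by
          calc (j : G) = x * (x⁻¹ * j * x) * x⁻¹ := by group
            _ = (1 : J) := by rw [e]; simp))
        have hjne : (j : G) ≠ 1 := fun e => hj (Subtype.ext e)
        refine Subgroup.mem_normalizer_iff.mpr fun k => ?_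
        conv_lhs => rw [← hcent _ hmem hy]
        conv_rhs => rw [← hcent _ j.2 hjne]
        simp only [Subgroup.mem_centralizer_singleton_iff]
        refine ⟨fun hk => ?_, fun hk => ?_⟩
        · calc x * k * x⁻¹ * j = x * (k * (x⁻¹ * j * x)) * x⁻¹ := by group
            _ = j * (x * k * x⁻¹) := by rw [hk]; group
        · calc k * (x⁻¹ * j * x) = x⁻¹ * (x * k * x⁻¹ * j) * x := by group
            _ = x⁻¹ * j * x * k := by rw [hk]; group
    rw [hres, classInner_smul_right, classInner_sum_right]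
    have hterm : ∀ n : N, classInner f
        (fun j : J => ((n • φ : IrrCharacter J) : J → ℂ) j - ((n • φ' : IrrCharacter J) : J → ℂ) j) =
        if (n : G) ∈ J then 2 else 0 := fun n => by
      have hn : ∀ ψ, ψ ≠ oneJ → ((n • ψ = ψ) ↔ (n : G) ∈ J) := fun ψ hψ => by
        rw [← MulAction.mem_stabilizer_iff, hstab ψ hψ, Subgroup.mem_subgroupOf]
      have hd : ∀ a b : IrrCharacter J, classInner (a : J → ℂ) (b : J → ℂ) = if a = b then 1 else 0 := fun a b => by
        rw [classInner_irr a.2 b.2]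
        exact if_congr Subtype.ext_iff.symm rfl rfl
      show classInner ((φ : J → ℂ) - (φ' : J → ℂ)) (((n • φ : IrrCharacter J) : J → ℂ) - (n • φ' : IrrCharacter J)) = _
      rw [classInner_sub_left, classInner_sub_right, classInner_sub_right, hd, hd, hd, hd,
        if_neg (fun e : φ = n • φ' => hor ⟨n⁻¹, by show n⁻¹ • φ = φ'; rw [e, inv_smul_smul]⟩),
        if_neg (fun e : φ' = n • φ => hor ⟨n, e.symm⟩)]
      by_cases hnJ : (n : G) ∈ J
      · rw [if_pos ((hn φ h).mpr hnJ).symm, if_pos ((hn φ' h').mpr hnJ).symm, if_pos hnJ]; norm_num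
      · rw [if_neg fun e => hnJ ((hn φ h).mp e.symm), if_neg fun e => hnJ ((hn φ' h').mp e.symm), if_neg hnJ]
        norm_num
    simp only [hterm, map_inv₀, map_natCast]
    rw [← Finset.sum_filter, Finset.sum_const, ← Fintype.card_subtype, ← Nat.card_eq_fintype_card,
      Nat.card_congr (Equiv.subtypeSubtypeEquivSubtype (p := (· ∈ N)) (q := (· ∈ J)) fun hx =>
        Subgroup.le_normalizer hx), nsmul_eq_mul, ← mul_assoc,
      inv_mul_cancel₀ (Nat.cast_ne_zero.mpr Nat.card_pos.ne'), one_mul]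
  have hcoef : ∀ φ φ' : IrrCharacter J, ∀ χ : IrrCharacter G,
      classInner (indFun J ((φ : J → ℂ) - (φ' : J → ℂ))) (χ : G → ℂ) = (((B χ φ : ℤ) - B χ φ' : ℤ) : ℂ) := fun φ φ' χ => by
    rw [frobenius_reciprocity J _ (isClassFunction_irr χ.2), classInner_sub_left, ← classInner_comm,
      ← classInner_comm (fun j : J => (χ : G → ℂ) j) (φ' : J → ℂ), hB, hB, map_natCast, map_natCast]
    push_cast
    ring
  have hΦ : ∀ φ φ', φ ≠ oneJ → φ' ≠ oneJ → c φ ≠ c φ' →
      indFun J ((φ : J → ℂ) - (φ' : J → ℂ)) = (c φ : G → ℂ) - c φ' := fun φ φ' h h' hne => by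
    have hor : φ' ∉ MulAction.orbit N φ := fun hm => by
      obtain ⟨n, hn⟩ := hm
      exact hne (by rw [← hn]; exact (hcinv n φ).symm)
    have hb0 : ∀ a b : IrrCharacter J, c a ≠ c b → B (c a) b = 0 := fun a b hab => by
      by_contra hh
      exact hab (hcu b (c a) (by rw [hcA, one_mul]; exact hh))
    let z' : IrrCharacter G → ℤ := fun χ => (B χ φ : ℤ) - B χ φ'
    have hsq : ∑ χ, z' χ * z' χ = 2 := by
      have h2 := hTI φ φ' h h' hor
      rw [classInner_eq_sum_irr (indFun_isClassFunction J _)] at h2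
      have e : ∀ χ : IrrCharacter G, classInner (χ : G → ℂ) (indFun J ((φ : J → ℂ) - (φ' : J → ℂ))) = (z' χ : ℂ) := fun χ => by
        rw [← classInner_comm, hcoef, map_intCast]
      refine Int.cast_injective (α := ℂ) ?_
      push_cast
      rw [← h2]
      exact Finset.sum_congr rfl fun χ _ => by rw [hcoef, e]
    have hz1' : z' (c φ) = 1 := by simp [z', hcB, hb0 φ φ' hne]
    have hz2' : z' (c φ') = -1 := by simp [z', hcB, hb0 φ' φ (Ne.symm hne)]
    have hrest : ∀ χ, χ ∉ ({c φ, c φ'} : Finset _) → z' χ = 0 := fun χ hχ => by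
      rw [← Finset.sum_add_sum_compl {c φ, c φ'}, Finset.sum_pair hne, hz1', hz2'] at hsq
      have h0 : ∑ χ ∈ ({c φ, c φ'} : Finset _)ᶜ, z' χ * z' χ = 0 := by linarith
      exact mul_self_eq_zero.mp ((Finset.sum_eq_zero_iff_of_nonneg fun i _ => mul_self_nonneg (z' i)).mp h0 χ
        (Finset.mem_compl.mpr hχ))
    conv_lhs => rw [eq_sum_irr (indFun_isClassFunction J _)]
    rw [Finset.sum_congr rfl fun χ _ => by rw [hcoef],
      ← Finset.sum_subset (Finset.subset_univ ({c φ, c φ'} : Finset _)) fun χ _ hχ => by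
        show (z' χ : ℂ) • _ = _
        rw [hrest χ hχ, Int.cast_zero, zero_smul], Finset.sum_pair hne]
    show (z' (c φ) : ℂ) • _ + (z' (c φ') : ℂ) • _ = _
    rw [hz1', hz2', Int.cast_one, one_smul, Int.cast_neg, Int.cast_one, neg_one_smul, sub_eq_add_neg]
  have hdeg : ∀ φ, ((c φ : G → ℂ) 1) = ((Finset.univ.filter fun ψ => c ψ = c φ).card : ℂ) := fun φ => by
    rw [hrestr, Finset.card_filter, Nat.cast_sum]
    refine Finset.sum_congr rfl fun ψ _ => ?_
    split
    · rename_i h; rw [← h, hcB]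
    · rename_i h
      norm_num
      by_contra hh
      exact h (hcu ψ (c φ) (by rw [hcA, one_mul]; exact hh)).symm
  -- the values at `z`
  have hval : ∀ χ ∈ I, (χ : G → ℂ) z = (χ : G → ℂ) 1 ∨ (χ ≠ one ∧ (χ : G → ℂ) z = 0 ∧ I ⊆ {one, χ}) := by
    intro χ hχI
    obtain ⟨φ, -, rfl⟩ := Finset.mem_image.mp hχI
    rcases eq_or_ne φ oneJ with rfl | hφ
    · left; rw [(hc1 oneJ).mpr rfl]
    obtain ⟨n, ρ, hρ, hρχ⟩ := id (c φ).2
    haveI := hρ
    set d := Module.finrank ℂ (Fin n → ℂ) with hd
    have hd1 : (c φ : G → ℂ) 1 = d := by rw [← hρχ, ρ.char_one]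
    set F := Finset.univ.filter fun ψ => c ψ = c φ with hF
    have hdF : d = F.card := Nat.cast_injective (hd1.symm.trans (hdeg φ))
    have hcard : Fintype.card (IrrCharacter J) = Nat.card J := by
      have h := sum_irr_degree_sq (G := J)
      simp only [hφ1, one_pow, Finset.sum_const, Finset.card_univ, nsmul_eq_mul, mul_one] at h
      exact_mod_cast h
    have hkey : Nat.Coprime d (Nat.card J) ∧ (I ⊆ {one, c φ} ∨ d = e) := by
      by_cases hsing : ∀ ψ, ψ ≠ oneJ → c ψ = c φ
      · refine ⟨?_, Or.inl fun x hx => ?_⟩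
        · have hFe : F = Finset.univ.erase oneJ := Finset.ext fun ψ => by
            simp only [hF, Finset.mem_filter, Finset.mem_univ, true_and, Finset.mem_erase, and_true]
            exact ⟨fun h e => hφ ((hc1 φ).mp (h ▸ (hc1 ψ).mpr e)), hsing ψ⟩
          rw [hdF, hFe, Finset.card_erase_of_mem (Finset.mem_univ _), Finset.card_univ, hcard]
          have hpos : 0 < Nat.card J := Nat.card_pos
          obtain ⟨k, hk⟩ : ∃ k, Nat.card J = k + 1 := ⟨Nat.card J - 1, by omega⟩
          rw [hk]
          simp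
        · obtain ⟨ψ, -, rfl⟩ := Finset.mem_image.mp hx
          rcases eq_or_ne ψ oneJ with rfl | hψ
          · simp [(hc1 oneJ).mpr rfl]
          · simp [hsing ψ hψ]
      push Not at hsing
      obtain ⟨φ', hφ', hne⟩ := hsing
      have hfib : ∀ a b, a ≠ oneJ → b ≠ oneJ → c a = c b → (∃ x, x ≠ oneJ ∧ c x ≠ c a) →
          b ∈ MulAction.orbit N a := fun a b ha hb hab ⟨x, hx, hxa⟩ => by
        by_contra hor
        have e1 := hΦ a x ha hx (Ne.symm hxa)
        have e2 := hΦ b x hb hx (fun h => hxa (h.symm.trans hab.symm))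
        have e3 : indFun J ((a : J → ℂ) - (b : J → ℂ)) = 0 := by
          rw [show ((a : J → ℂ) - (b : J → ℂ)) = ((a : J → ℂ) - (x : J → ℂ)) - ((b : J → ℂ) - (x : J → ℂ)) by abel, indFun_sub, e1, e2, hab, sub_self]
        have e4 := hTI a b ha hb hor
        rw [e3] at e4
        simp [classInner] at e4
      have hfe : ∀ a, a ≠ oneJ → (Finset.univ.filter fun ψ => c ψ = c a).card = e := fun a ha => by
        have hx : ∃ x, x ≠ oneJ ∧ c x ≠ c a := by
          by_cases h : c a = c φ
          · exact ⟨φ', hφ', h ▸ hne⟩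
          · exact ⟨φ, hφ, Ne.symm h⟩
        rw [← horb a ha, Set.ncard_eq_toFinset_card _ (Set.toFinite _)]
        refine congrArg Finset.card (Finset.ext fun b => ?_)
        simp only [Finset.mem_filter, Finset.mem_univ, true_and, Set.Finite.mem_toFinset]
        refine ⟨fun h => hfib a b ha ?_ h.symm hx, fun ⟨n, hn⟩ => hn ▸ hcinv n a⟩
        intro hb
        exact ha ((hc1 a).mp (h.symm.trans ((hc1 b).mpr hb)))
      refine ⟨?_, Or.inr (hdF.trans (hfe φ hφ))⟩
      rw [hdF, hfe φ hφ, ← hcard, ← Finset.card_univ,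
        ← Finset.card_erase_add_one (Finset.mem_univ oneJ)]
      have hdvd : e ∣ (Finset.univ.erase oneJ).card := by
        rw [Finset.card_eq_sum_card_fiberwise (f := c) (t := (Finset.univ.erase oneJ).image c)
          (fun x hx => Finset.mem_image_of_mem c hx)]
        refine Finset.dvd_sum fun y hy => ?_
        obtain ⟨a, ha, rfl⟩ := Finset.mem_image.mp hy
        have ha' := (Finset.mem_erase.mp ha).1
        refine (hfe a ha').symm ▸ dvd_of_eq (congrArg Finset.card (Finset.ext fun b => ?_))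
        simp only [Finset.mem_filter, Finset.mem_univ, true_and, Finset.mem_erase, and_true]
        exact ⟨fun h => ⟨fun e => ha' ((hc1 a).mp (h.symm.trans ((hc1 b).mpr e))), h⟩, fun h => h.2⟩
      obtain ⟨k, hk⟩ := hdvd
      rw [hk]
      simp
    rcases zero_or_norm_of_coprime ρ z (by rw [← hd, ← hH, hindex]; exact hkey.1) with h0 | h1
    · rcases hkey.2 with hs | hde
      · exact Or.inr ⟨fun h => hφ ((hc1 φ).mp h), by rw [← hρχ]; exact h0, hs⟩
      · exact absurd h0 (char_invol_ne_zero ρ hz (by rw [← hd, hde]; exact hodd))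
    · left
      refine char_invol_eq_degree (c φ).2 hz hfour ?_
      rw [hd1, Complex.norm_natCast, ← hρχ, h1]
  -- counting fixed points
  have hperm : ∀ x, π x = (permChar H x : ℂ) := indFun_one_eq_permChar H
  have hfix : ∀ y : G, (y : G ⧸ H) ∈ MulAction.fixedBy (G ⧸ H) z ↔ y * z * y⁻¹ * z = z * (y * z * y⁻¹) := fun y => by
    rw [MulAction.mem_fixedBy, fix_mk_iff, hH, Subgroup.mem_centralizer_singleton_iff]
    refine ⟨fun h => ?_, fun h => ?_⟩
    · calc y * z * y⁻¹ * z = y * (z * (y⁻¹ * z * y)) * y⁻¹ := by group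
        _ = _ := by rw [← h]; group
    · calc y⁻¹ * z * y * z = y⁻¹ * (z * (y * z * y⁻¹)) * y := by group
        _ = _ := by rw [← h]; group
  by_cases hall : ∀ χ ∈ I, (χ : G → ℂ) z = (χ : G → ℂ) 1
  · have h : (permChar H z : ℂ) = permChar H 1 := by
      rw [← hperm, ← hperm, hπI, hπI, Finset.sum_congr rfl hall]
    have h' : Nat.card (MulAction.fixedBy (G ⧸ H) z) = Nat.card (MulAction.fixedBy (G ⧸ H) (1 : G)) := by
      simp only [permChar] at h
      exact_mod_cast h
    rw [MulAction.fixedBy_one_eq_univ, Nat.card_coe_set_eq, Nat.card_coe_set_eq] at h'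
    have huniv := Set.eq_of_subset_of_ncard_le (Set.subset_univ _) h'.ge (Set.toFinite _)
    exact (hfix g).mp (huniv ▸ Set.mem_univ _)
  exfalso
  push Not at hall
  obtain ⟨χ, hχI, hχz⟩ := hall
  obtain ⟨hne, h0, hsub⟩ := (hval χ hχI).resolve_left hχz
  have hIeq : I = {one, χ} := by
    refine Finset.Subset.antisymm hsub fun x hx => ?_
    rcases Finset.mem_insert.mp hx with rfl | hx
    · exact Finset.mem_image.mpr ⟨oneJ, Finset.mem_univ _, (hc1 oneJ).mpr rfl⟩
    · rw [Finset.mem_singleton.mp hx]; exact hχI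
  have h1 : (permChar H z : ℂ) = 1 := by
    rw [← hperm, hπI, hIeq, Finset.sum_pair (Ne.symm hne), h0, add_zero]
  have h1' : Nat.card (MulAction.fixedBy (G ⧸ H) z) = 1 := by
    simp only [permChar] at h1
    exact_mod_cast h1
  obtain ⟨a, b, hab⟩ := hfour
  set w := a * z * a⁻¹
  have hw2 : w * w = 1 := by
    calc w * w = a * (z * z) * a⁻¹ := by simp only [w]; group
      _ = 1 := by rw [hz]; group
  have hzw : w * z = z * w := by
    have h2 : (z * w) * (z * w) = 1 := by
      rw [hab]
      calc b * z * b⁻¹ * (b * z * b⁻¹) = b * (z * z) * b⁻¹ := by group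
        _ = 1 := by rw [hz]; group
    calc w * z = (z * z) * (w * z) * (w * w) := by rw [hz, hw2, one_mul, mul_one]
      _ = z * ((z * w) * (z * w)) * w := by group
      _ = z * w := by rw [h2, mul_one]
  have hsing := (Nat.card_eq_one_iff_unique.mp h1').1
  have h2 := hsing.elim ⟨((a : G) : G ⧸ H), (hfix a).mpr hzw⟩
    ⟨((1 : G) : G ⧸ H), (hfix 1).mpr (by simp)⟩
  have h3 : a ∈ H := by
    have h4 := QuotientGroup.eq.mp (congrArg Subtype.val h2).symm
    simpa using h4
  have hwz : w = z := (hmemH a).mp h3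
  rw [hwz, hz] at hab
  exact hz1 (by
    calc z = b⁻¹ * (b * z * b⁻¹) * b := by group
      _ = 1 := by rw [← hab]; group)

end CfsgLib.Bender.NCTools
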